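import Mathlib

/-!
# An additive functional is bounded by a positive definite biadditive form
-/

set_option autoImplicit false

namespace GrothLib.GitMu15

theorem exists_int_multiple {n : ℕ} (c : Fin n → ℚ) :
    ∃ (N : ℕ) (z : Fin n → ℤ), N ≠ 0 ∧ ∀ i, (z i : ℚ) = (N : ℚ) * c i := by
  refine ⟨∏ i, (c i).den, fun i => (c i).num * ((∏ j ∈ Finset.univ.erase i, (c j).den : ℕ) : ℤ),
    Finset.prod_ne_zero_iff.2 fun i _ => (c i).den_nz, fun i => ?_⟩
  rw [← Finset.mul_prod_erase Finset.univ (fun j => (c j).den) (Finset.mem_univ i)]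
  push_cast
  rw [mul_comm ((c i).den : ℚ) _, mul_assoc, mul_comm (c i).num.cast]
  congr 1
  rw [mul_comm, Rat.mul_den_eq_num]

theorem exists_bound {A : Type*} [AddCommGroup A] {n : ℕ} (e : Module.Basis (Fin n) ℤ A) (b : A → A → ℚ)
    (hadd : ∀ x y z, b (x + y) z = b x z + b y z) (hsymm : ∀ x y, b x y = b y x)
    (hpos : ∀ x, x ≠ 0 → 0 < b x x) (ℓ : A → ℚ) (hℓ : ∀ x y, ℓ (x + y) = ℓ x + ℓ y) :
    ∃ C : ℚ, 0 ≤ C ∧ ∀ x, ℓ x ^ 2 ≤ C * b x x := by
  classical
  let B₀ : A →+ A →+ ℚ := AddMonoidHom.mk'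
    (fun x => AddMonoidHom.mk' (b x) fun y z => by rw [hsymm, hadd, hsymm y, hsymm z])
    fun x y => AddMonoidHom.ext (hadd x y)
  have hB : ∀ x y, B₀ x y = b x y := fun _ _ => rfl
  let L₀ : A →+ ℚ := AddMonoidHom.mk' ℓ hℓ
  let φ : A → (Fin n → ℚ) := fun x i => (e.repr x i : ℚ)
  let β : LinearMap.BilinForm ℚ (Fin n → ℚ) := Matrix.toBilin' (Matrix.of fun i j => b (e i) (e j))
  let L : (Fin n → ℚ) →ₗ[ℚ] ℚ := ∑ i, ℓ (e i) • LinearMap.proj i
  have hx : ∀ x : A, x = ∑ i, (e.repr x i) • e i := fun x => (e.sum_repr x).symm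
  have hβ : ∀ x y, β (φ x) (φ y) = b x y := by
    intro x y
    rw [Matrix.toBilin'_apply, ← hB x y]
    conv_rhs => rw [hx x, hx y]
    simp only [map_sum, map_zsmul, AddMonoidHom.finsetSum_apply, AddMonoidHom.zsmul_apply, Matrix.of_apply, φ,
      zsmul_eq_mul]
    rw [Finset.sum_comm]
    refine Finset.sum_congr rfl fun j _ => ?_
    simp only [Finset.mul_sum]
    refine Finset.sum_congr rfl fun i _ => ?_
    rw [hB]
    ring
  have hL : ∀ x, L (φ x) = ℓ x := by
    intro x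
    rw [show ℓ x = L₀ x from rfl]
    conv_rhs => rw [hx x]
    simp only [map_sum, map_zsmul, zsmul_eq_mul, L, LinearMap.sum_apply, LinearMap.smul_apply, LinearMap.proj_apply,
      smul_eq_mul, φ]
    exact Finset.sum_congr rfl fun i _ => _root_.mul_comm _ _
  have hdense : ∀ c : Fin n → ℚ, ∃ (N : ℕ) (x : A), N ≠ 0 ∧ φ x = (N : ℚ) • c := by
    intro c
    obtain ⟨N, z, hN, hz⟩ := exists_int_multiple c
    refine ⟨N, ∑ i, z i • e i, hN, funext fun i => ?_⟩
    show ((e.repr (∑ j, z j • e j) i : ℤ) : ℚ) = _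
    rw [e.repr_sum_self, hz, Pi.smul_apply, smul_eq_mul]
  have hsemi : ∀ c, 0 ≤ β c c := by
    intro c
    obtain ⟨N, x, hN, hx⟩ := hdense c
    have h := hβ x x
    simp only [hx, map_smul, LinearMap.smul_apply, smul_eq_mul, ← _root_.mul_assoc] at h
    have h0 : 0 ≤ b x x := by
      rcases eq_or_ne x 0 with rfl | hne
      · exact le_of_eq (by rw [← hB, map_zero])
      · exact (hpos x hne).le
    have hN' : (0 : ℚ) < (N : ℚ) * N := by positivity
    nlinarith [h, h0, hN']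
  have hinj : Function.Injective β := by
    refine (injective_iff_map_eq_zero β).2 fun c hc => ?_
    obtain ⟨N, x, hN, hx⟩ := hdense c
    have h := hβ x x
    simp only [hx, map_smul, hc, smul_zero, LinearMap.smul_apply, LinearMap.zero_apply] at h
    have hx0 : x = 0 := by
      by_contra hne
      exact (hpos x hne).ne h
    have : φ x = 0 := funext fun i => by simp [φ, hx0]
    rw [hx, smul_eq_zero] at this
    exact this.resolve_left (Nat.cast_ne_zero.2 hN)
  obtain ⟨v, hv⟩ := (LinearMap.injective_iff_surjective_of_finrank_eq_finrank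
    (Subspace.dual_finrank_eq (K := ℚ) (V := Fin n → ℚ)).symm).1 hinj L
  refine ⟨β v v, hsemi v, fun x => ?_⟩
  have hvx : β v (φ x) = ℓ x := by rw [hv, hL]
  have hvx' : β (φ x) v = ℓ x := by
    rw [← hvx, Matrix.toBilin'_apply, Matrix.toBilin'_apply, Finset.sum_comm]
    refine Finset.sum_congr rfl fun i _ => Finset.sum_congr rfl fun j _ => ?_
    simp only [Matrix.of_apply]
    rw [hsymm (e j) (e i)]
    ring
  rcases eq_or_ne x 0 with rfl | hne
  · have h0 : ℓ (0 : A) = 0 := L₀.map_zero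
    have hb0 : b (0 : A) 0 = 0 := by rw [← hB, map_zero]
    rw [h0, hb0, mul_zero, sq, mul_zero]
  have hb := hpos x hne
  have h := hsemi (b x x • v - ℓ x • φ x)
  simp only [map_sub, map_smul, LinearMap.sub_apply, LinearMap.smul_apply, smul_eq_mul, hvx, hvx', hβ] at h
  have h2 : 0 ≤ b x x * (β v v * b x x - ℓ x ^ 2) := by nlinarith [h]
  have h3 := nonneg_of_mul_nonneg_right h2 hb
  linarith

end GrothLib.GitMu15
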