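import Groth.Agent.Lib.GitMu15.Eig
import Groth.Agent.Lib.CharFG28.GroupLike
import Groth.Agent.Lib.Flag27.UnipBasic
import Groth.Agent.Lib.DiagGrp.SubgroupEq
import Groth.Agent.Lib.IsogProps19.Torus

/-!
# One-parameter subgroups of a torus form a lattice
-/

set_option autoImplicit false
set_option maxHeartbeats 800000
set_option backward.isDefEq.respectTransparency false
set_option backward.isDefEq.respectTransparency.types false

universe u

open CategoryTheory CategoryTheory.Limits MonoidalCategory CartesianMonoidalCategory MonObj AlgebraicGeometry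
open Opposite VecGrp

noncomputable section

namespace GrothLib.GitMu15

open GrothLib.Repr GrothLib.Induce27 GrothLib.MagnetPts GrothLib.MultHopf14 Groth.Agent.S11191

attribute [local instance 2000] Algebra.toModule

variable {k : Type u} [Field k] [IsAlgClosed k] {T : Over (Spec (CommRingCat.of k))} [GrpObj T]

omit [IsAlgClosed k] in
theorem isMonHom_mul [IsCommMonObj T] (l₁ l₂ : Red.Gm (Spec (CommRingCat.of k)) ⟶ T) [IsMonHom l₁] [IsMonHom l₂] :
    IsMonHom (l₁ * l₂) :=
  GrothLib.DiagGrp.isMonHom_of_points (A := Red.Gm (Spec (CommRingCat.of k))) (B := T) (l₁ * l₂) fun Y a b => by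
    rw [MonObj.comp_mul, MonObj.comp_mul, MonObj.comp_mul, MonObj.mul_comp, MonObj.mul_comp, _root_.mul_mul_mul_comm]

omit [IsAlgClosed k] in
theorem isMonHom_inv [IsCommMonObj T] (l : Red.Gm (Spec (CommRingCat.of k)) ⟶ T) [IsMonHom l] :
    IsMonHom l⁻¹ :=
  GrothLib.DiagGrp.isMonHom_of_points (A := Red.Gm (Spec (CommRingCat.of k))) (B := T) l⁻¹ fun Y a b => by
    rw [GrpObj.comp_inv, GrpObj.comp_inv, GrpObj.comp_inv, MonObj.mul_comp, _root_.mul_inv]

omit [IsAlgClosed k] in
theorem isMonHom_one : IsMonHom (1 : Red.Gm (Spec (CommRingCat.of k)) ⟶ T) :=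
  GrothLib.DiagGrp.isMonHom_of_points (A := Red.Gm (Spec (CommRingCat.of k))) (B := T) 1 fun Y a b => by
    rw [MonObj.comp_one, MonObj.comp_one, MonObj.comp_one, _root_.one_mul]

variable (T) in
/-- The group of one-parameter subgroups of a commutative group. -/
def cochar [IsCommMonObj T] : Subgroup (Red.Gm (Spec (CommRingCat.of k)) ⟶ T) where
  carrier := {l | IsMonHom l}
  one_mem' := isMonHom_one
  mul_mem' := fun {l₁ l₂} (h₁ : IsMonHom l₁) (h₂ : IsMonHom l₂) => by
    haveI := h₁; haveI := h₂; exact isMonHom_mul l₁ l₂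
  inv_mem' := fun {l} (h : IsMonHom l) => by haveI := h; exact isMonHom_inv l

/-- The characters of a torus separate its one-parameter subgroups. -/
theorem exists_separating (hT : Red.IsTorus T) :
    ∃ (r : ℕ) (χ : Fin r → ((pt k k ⟶ T) →* k)), (∀ j, IsChar (χ j : (pt k k ⟶ T) → k)) ∧
      ∀ (l l' : Red.Gm (Spec (CommRingCat.of k)) ⟶ T), IsMonHom l → IsMonHom l' →
        (∀ j (z : kˣ), χ j (gpt z ≫ l) = χ j (gpt z ≫ l')) → l = l' := by
  classical
  haveI : IsAffine T.left := (GrothLib.OneMotFaith14.isAffine_of_isTorus hT).1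
  haveI : LocallyOfFiniteType T.hom := (GrothLib.OneMotFaith14.isAffine_of_isTorus hT).2
  obtain ⟨A, _, _, ⟨e⟩⟩ := exists_hopf T (isAffineHom_of_isAffine T.hom)
  have hA := GrothLib.OneMotFaith14.isDiagonalizable_torus e hT
  haveI := GrothLib.Flag27.finiteType_of_grpIso e
  haveI := GrothLib.CharFG28.fg_groupLike k A
  obtain ⟨s, hs⟩ := Group.fg_def.1 (inferInstance : Group.FG (GroupLike k A))
  let φ : specGrp (R := k) A ⟶ T := ((Grp.forget _).mapIso e).hom
  haveI : IsMonHom φ := inferInstanceAs (IsMonHom e.hom.hom.hom)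
  haveI : IsIso φ := Iso.isIso_hom _
  choose χ hχ hval using fun g : GroupLike k A => exists_char φ g.2
  refine ⟨s.card, fun j => χ (s.equivFin.symm j).1, fun j => hχ _, fun l l' hl hl' h => ?_⟩
  haveI := hl; haveI := hl'
  haveI : IsIso (gpt (k := k) (unitT k) : pt k (LaurentPolynomial k) ⟶ Red.Gm (Spec (CommRingCat.of k))) :=
    isIso_gpt_unitT k
  obtain ⟨ψ, hψ⟩ := exists_univPt φ (gpt (k := k) (unitT k) ≫ l)
  obtain ⟨ψ', hψ'⟩ := exists_univPt φ (gpt (k := k) (unitT k) ≫ l')
  have hsame : ψ = ψ' := by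
    have hgen : ∀ g ∈ s, ψ ((g : GroupLike k A) : A) = ψ' ((g : GroupLike k A) : A) := by
      intro g hg
      have hz : ∀ z : kˣ, evalUnit (k := k) z (ψ (g : A)) = evalUnit (k := k) z (ψ' (g : A)) := by
        intro z
        have h1 := h (s.equivFin ⟨g, hg⟩) z
        simp only [Equiv.symm_apply_apply] at h1
        have e1 : gpt (k := k) z ≫ l = ptMap ((evalUnit (k := k) z).comp ψ) ≫ jT A ≫ φ := by
          rw [Repr.ptMap_comp, Category.assoc, ← hψ, ← Category.assoc, evalUnit_comp_unitT]
        have e2 : gpt (k := k) z ≫ l' = ptMap ((evalUnit (k := k) z).comp ψ') ≫ jT A ≫ φ := by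
          rw [Repr.ptMap_comp, Category.assoc, ← hψ', ← Category.assoc, evalUnit_comp_unitT]
        rw [e1, e2, hval, hval] at h1
        exact h1
      obtain ⟨c, d, hc, hd⟩ := exists_monomial ((g.2.isUnit).map ψ)
      obtain ⟨c', d', hc', hd'⟩ := exists_monomial ((g.2.isUnit).map ψ')
      have hw : ∀ z : kˣ, c * (z : k) ^ d = c' * (z : k) ^ d' := fun z => by
        have := hz z
        rwa [hd, hd', smul_eq_mul, smul_eq_mul, Units.val_zpow_eq_zpow_val, Units.val_zpow_eq_zpow_val] at this
      have hcc : c = c' := by simpa using hw 1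
      subst hcc
      haveI : Infinite k := IsAlgClosed.instInfinite (K := k)
      have hdd : d = d' := zpow_units_injective (k := k) fun z => mul_left_cancel₀ hc (hw z)
      subst hdd
      have q1 := hd (R := LaurentPolynomial k) (unitT k)
      have q2 := hd' (R := LaurentPolynomial k) (unitT k)
      rw [evalUnit_unitT_self] at q1 q2
      exact q1.trans q2.symm
    refine AlgHom.toLinearMap_injective (LinearMap.ext_on hA fun a (ha : IsGroupLikeElem k a) => ?_)
    suffices H : ∀ g : GroupLike k A, ψ (g : A) = ψ' (g : A) from H ⟨a, ha⟩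
    intro g
    have hmem : g ∈ Subgroup.closure (s : Set (GroupLike k A)) := hs ▸ Subgroup.mem_top _
    induction hmem using Subgroup.closure_induction with
    | mem g hg => exact hgen g hg
    | one => rw [GroupLike.val_one, map_one, map_one]
    | mul x y _ _ hx hy => rw [GroupLike.val_mul, map_mul, map_mul, hx, hy]
    | inv x _ hx =>
      have e1 : ((x⁻¹ : GroupLike k A) : A) * (x : A) = 1 := by
        rw [← GroupLike.val_mul, inv_mul_cancel, GroupLike.val_one]
      have e2 := congrArg ψ e1
      have e3 := congrArg ψ' e1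
      rw [map_mul, map_one] at e2 e3
      rw [hx] at e2
      exact mul_right_cancel₀ (right_ne_zero_of_mul_eq_one e3) (e2.trans e3.symm)
  rw [← cancel_epi (gpt (k := k) (unitT k) : pt k (LaurentPolynomial k) ⟶ Red.Gm (Spec (CommRingCat.of k))),
    hψ, hψ', hsame]

/-- The one-parameter subgroups of a torus form a free group of finite rank. -/
theorem exists_basis [IsCommMonObj T] (hT : Red.IsTorus T) :
    ∃ n : ℕ, Nonempty (Module.Basis (Fin n) ℤ (Additive (cochar T))) := by
  classical
  obtain ⟨r, χ, hχ, hsep⟩ := exists_separating hT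
  have hex : ∀ (l : cochar T) (j : Fin r), ∃ d : ℤ, ∀ z : kˣ, χ j (gpt z ≫ l.1) = (z : k) ^ d :=
    fun l j => hχ j l.1 l.2
  choose d hd using hex
  haveI : Infinite k := IsAlgClosed.instInfinite (K := k)
  let f : Additive (cochar T) →+ (Fin r → ℤ) := AddMonoidHom.mk' (fun l j => d l.toMul j) fun l l' => by
    funext j
    refine zpow_units_injective (k := k) fun z => ?_
    rw [← hd, Pi.add_apply, zpow_add₀ z.ne_zero, ← hd, ← hd, ← map_mul, ← MonObj.comp_mul]
    rfl
  have hf : Function.Injective f := fun l l' h => by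
    refine Additive.toMul.injective (Subtype.ext (hsep _ _ l.toMul.2 l'.toMul.2 fun j z => ?_))
    rw [hd, hd]
    exact congrArg (fun e : ℤ => (z : k) ^ e) (congrFun h j)
  obtain ⟨n, b⟩ := Submodule.basisOfPid (Pi.basisFun ℤ (Fin r)) (LinearMap.range f.toIntLinearMap)
  exact ⟨n, ⟨b.map (LinearEquiv.ofInjective f.toIntLinearMap hf).symm⟩⟩

end GrothLib.GitMu15
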