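import Groth.Agent.Lib.Flag27.BorelUnion
import Groth.Agent.Lib.Chev24.Tori
import Groth.Agent.Lib.UnipFix19.RedProps
import Groth.Agent.Lib.RankCell14.Compat

/-!
# One-parameter subgroups are conjugate into a maximal torus
-/

set_option autoImplicit false
set_option linter.all false
set_option backward.isDefEq.respectTransparency false
set_option maxHeartbeats 1600000

universe u

open CategoryTheory CategoryTheory.Limits MonoidalCategory CartesianMonoidalCategory MonObj GrpObj AlgebraicGeometry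

noncomputable section

namespace GrothLib.GitMu15

open GrothLib.Flag27

variable {k : Type u} [Field k] [IsAlgClosed k]
  {G : Over (Spec (CommRingCat.of k))} [GrpObj G] [IsAffine G.left] [Smooth G.hom]

/-- A solvable connected group acting through a homomorphism is conjugate into a subgroup with proper quotient. -/
theorem exists_conj_into' {B H : Over (Spec (CommRingCat.of k))} [GrpObj B] [GrpObj H] {i : B ⟶ G} [IsMonHom i]
    {X : Over (Spec (CommRingCat.of k))} (a : AlgGrp.Action G X) (o : 𝟙_ (Over (Spec (CommRingCat.of k))) ⟶ X)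
    (hX : AGF.IsQuotient i X a o) [IsProper X.hom] (j : H ⟶ G) [IsMonHom j] [IsAffine H.left]
    [Smooth H.hom] [ConnectedSpace H.left] (hs : IsSolvable (𝟙_ (Over (Spec (CommRingCat.of k))) ⟶ H)) :
    ∃ (g : 𝟙_ (Over (Spec (CommRingCat.of k))) ⟶ G) (f : H ⟶ B), f ≫ i = AGF.conjBy g j := by
  obtain ⟨hXl, -, hsurj, hpb⟩ := hX
  haveI := hXl
  haveI := hsurj
  haveI : Nonempty X.left := ⟨o.left.base (IsLocalRing.closedPoint k)⟩
  haveI : Group.IsSolvable (𝟙_ (Over (Spec (CommRingCat.of k))) ⟶ H) := hs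
  obtain ⟨y, hy⟩ := GrothLib.BorelFix27.exists_fixedPt (a.restrict j)
  obtain ⟨g, -, hg⟩ := exists_cl_lift (a.orbitMap o) (E := Set.univ) isClosed_univ.isLocallyClosed (w := y)
    (by rw [Set.image_univ]; exact hsurj.surj _)
  refine ⟨g⁻¹, ?_⟩
  have h := hy H (𝟙 H)
  rw [AlgGrp.Action.lift_restrict_act, Category.id_comp, ← hg, GrothLib.FlatFactor.comp_orbitMap,
    ← Category.assoc (toUnit H), comp_lift, ← Category.assoc (toUnit H) (toUnit _),
    toUnit_unique (toUnit H ≫ toUnit _) (toUnit H), ← GrothLib.DiagGrp.act_mul,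
    ← GrothLib.FlatFactor.comp_orbitMap, ← GrothLib.FlatFactor.comp_orbitMap] at h
  refine ⟨hpb.lift (toUnit H ≫ g) (j * (toUnit H ≫ g)) h.symm ≫ snd G B, ?_⟩
  have e1 := hpb.lift_fst (toUnit H ≫ g) (j * (toUnit H ≫ g)) h.symm
  have e2 := hpb.lift_snd (toUnit H ≫ g) (j * (toUnit H ≫ g)) h.symm
  generalize hpb.lift (toUnit H ≫ g) (j * (toUnit H ≫ g)) h.symm = l at e1 e2
  have el : l = lift (l ≫ fst G B) (l ≫ snd G B) := by rw [← comp_lift, lift_fst_snd, Category.comp_id]
  rw [el, lift_whiskerLeft_assoc, ← Hom.mul_def, e1] at e2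
  rw [← inv_mul_cancel_left (toUnit H ≫ g) ((l ≫ snd G B) ≫ i), e2, AGF.conjBy, GrpObj.comp_inv,
    _root_.inv_inv, _root_.mul_assoc]

/-- A homomorphism from a torus to a connected group is conjugate into any maximal torus. -/
theorem exists_conj_into_maxTorus [ConnectedSpace G.left] {T S : Over (Spec (CommRingCat.of k))} [GrpObj T] [GrpObj S]
    {iT : T ⟶ G} [IsMonHom iT] [Mono iT] (hT : AGF.IsMaxTorus iT) (hS : Red.IsTorus S) (l : S ⟶ G) [IsMonHom l] :
    ∃ (g : 𝟙_ (Over (Spec (CommRingCat.of k))) ⟶ G) (m : S ⟶ T), IsMonHom m ∧ l = AGF.conjBy g (m ≫ iT) := by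
  haveI : IsAffine S.left := (GrothLib.OneMotFaith14.isAffine_of_isTorus hS).1
  haveI : LocallyOfFiniteType S.hom := (GrothLib.OneMotFaith14.isAffine_of_isTorus hS).2
  obtain ⟨hSs, hSc⟩ := Rigidity.smooth_connected_of_isTorus S hS
  haveI := hSs; haveI := hSc
  obtain ⟨B, _, iB, hB, -⟩ := exists_borel (G := G)
  obtain ⟨hi, hic, hBsm, hBconn, hBsolv, -⟩ := id hB
  haveI := hi; haveI := hic; haveI := hBsm; haveI := hBconn
  haveI : IsAffine B.left := isAffine_of_isAffineHom iB.left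
  haveI : Mono iB := Over.mono_of_mono_left iB
  obtain ⟨D, _, U, _, p, s, u, r, hp, hs, hu, hsp, hDt, hDa, hDs, -, huc, hup, -, hru, hUu, hUs, -⟩ :=
    hasSplit_of_solvable (isSolvable_points hBsolv)
  haveI := hp; haveI := hs; haveI := hu; haveI := huc; haveI := hUs
  haveI : Mono u := Over.mono_of_mono_left u
  haveI : IsAffine U.left := isAffine_of_isAffineHom u.left
  obtain ⟨X, a, o, hX, hXp⟩ := isProper_quotient_good (uc_of_borel hB)
  haveI := hXp
  obtain ⟨g, f, hf⟩ := exists_conj_into' a o hX l (isSolvable_of_comm fun x y => GrothLib.RankCell14.comm_torus hS x y)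
  haveI : IsMonHom (f ≫ iB) := by rw [hf]; exact isMonHom_conjBy g l
  haveI : IsMonHom f := GrothLib.CentMT14.isMonHom_of_comp f iB
  obtain ⟨h, hh⟩ := exists_conj_section hUu p s u r hsp hup hru hS f
  obtain ⟨g', e, he⟩ := exists_iso_section hB p s u r hsp hup hru hUu hDt iT hT
  have hm1 : AGF.conjBy ((h ≫ iB) * g) l = AGF.conjBy g' ((f ≫ p ≫ e.inv) ≫ iT) := by
    rw [← conjBy_conjBy, ← hf,
      show AGF.conjBy (h ≫ iB) (f ≫ iB) = AGF.conjBy h f ≫ iB by
        simp only [AGF.conjBy, MonObj.mul_comp, GrpObj.inv_comp, Category.assoc],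
      hh, ← comp_conjBy', ← he]
    simp only [Category.assoc, Iso.inv_hom_id_assoc]
  refine ⟨((h ≫ iB) * g)⁻¹ * g', f ≫ p ≫ e.inv, ?_, ?_⟩
  · haveI : IsMonHom (e.hom ≫ s ≫ iB) := by rw [he]; exact isMonHom_conjBy g' iT
    haveI : IsSplitMono s := IsSplitMono.mk' ⟨p, hsp⟩
    haveI : Mono (s ≫ iB) := inferInstance
    haveI : IsMonHom e.hom := GrothLib.CentMT14.isMonHom_of_comp e.hom (s ≫ iB)
    haveI : IsMonHom e.inv := inferInstance
    infer_instance
  · rw [← conjBy_conjBy, ← hm1, conjBy_conjBy, inv_mul_cancel, conjBy_one]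

end GrothLib.GitMu15
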