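import Groth.Agent.Lib.GitMu15.Fibre
import Groth.Agent.Lib.OneMotFaith14.Points
import Groth.Agent.Lib.MultHopf14.Frames

/-!
# Decomposition of functions into weight vectors of a torus
-/

set_option autoImplicit false
set_option maxHeartbeats 800000
set_option backward.isDefEq.respectTransparency false
set_option backward.isDefEq.respectTransparency.types false

universe u

open CategoryTheory CategoryTheory.Limits MonoidalCategory CartesianMonoidalCategory MonObj AlgebraicGeometry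
open Opposite VecGrp
open scoped TensorProduct

noncomputable section

namespace GrothLib.GitMu15

open GrothLib.Repr GrothLib.Induce27 GrothLib.MagnetPts GrothLib.MultHopf14 Groth.Agent.S11191

attribute [local instance 2000] Algebra.toModule

variable {k : Type u} [Field k]

/-- An affine test scheme seen as a spectrum over the base. -/
def jT (B : Type u) [CommRing B] [Algebra k B] :
    pt k B ⟶ (Spec (CommRingCat.of B)).asOver (Spec (CommRingCat.of k)) :=
  Over.homMk (𝟙 _) (Category.id_comp _)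

theorem ptMap_jT {A B : Type u} [CommRing A] [HopfAlgebra k A] [CommRing B] [Algebra k B] (ψ : A →ₐ[k] B) :
    ptMap ψ ≫ jT A = jT B ≫ Spec.mapMulEquiv (WithConv.toConv ψ) :=
  Over.OverMorphism.ext ((Category.comp_id _).trans (Category.id_comp _).symm)

theorem isIso_jT (B : Type u) [CommRing B] [Algebra k B] : IsIso (jT (k := k) B) := by
  refine ⟨Over.homMk (𝟙 _) (Category.id_comp _), ?_, ?_⟩ <;> exact Over.OverMorphism.ext (Category.id_comp _)

variable {T : Over (Spec (CommRingCat.of k))} [GrpObj T]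

/-- The product of two points of the group of a Hopf algebra. -/
theorem ptMap_mul {A B : Type u} [CommRing A] [HopfAlgebra k A] [CommRing B] [Algebra k B]
    (φ : specGrp (R := k) A ⟶ T) [IsMonHom φ] (ψ ψ' : A →ₐ[k] B) :
    (ptMap ψ ≫ jT A ≫ φ) * (ptMap ψ' ≫ jT A ≫ φ) =
      ptMap (WithConv.toConv ψ * WithConv.toConv ψ').ofConv ≫ jT A ≫ φ := by
  rw [reassoc_of% ptMap_jT, reassoc_of% ptMap_jT, reassoc_of% ptMap_jT, WithConv.toConv_ofConv, map_mul,
    ← MonObj.comp_mul, MonObj.mul_comp]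

theorem conv_groupLike {A B : Type u} [CommRing A] [HopfAlgebra k A] [CommRing B] [Algebra k B]
    (ψ ψ' : A →ₐ[k] B) {g : A} (hg : IsGroupLikeElem k g) :
    (WithConv.toConv ψ * WithConv.toConv ψ').ofConv g = ψ g * ψ' g := by
  refine (AlgHom.convMul_apply _ _ _).trans ?_
  rw [hg.comul_eq_tmul_self]
  simp

/-- The exponent of a character along one-parameter subgroups exists. -/
def IsChar (χ : (pt k k ⟶ T) → k) : Prop :=
  ∀ (l : Red.Gm (Spec (CommRingCat.of k)) ⟶ T), IsMonHom l → ∃ d : ℤ, ∀ w : kˣ, χ (gpt w ≫ l) = (w : k) ^ d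

theorem exists_univPt {A : Type u} [CommRing A] [HopfAlgebra k A]
    (φ : specGrp (R := k) A ⟶ T) [IsIso φ] {R : Type u} [CommRing R] [Algebra k R] (P : pt k R ⟶ T) :
    ∃ ψ : A →ₐ[k] R, P = ptMap ψ ≫ jT A ≫ φ := by
  haveI := isIso_jT (k := k) A
  obtain ⟨ψ, hψ⟩ := GrothLib.Repr.exists_ptMap (P ≫ inv (jT (k := k) A ≫ φ))
  exact ⟨ψ, by rw [← hψ, Category.assoc, IsIso.inv_hom_id, Category.comp_id]⟩

theorem exists_char {A : Type u} [CommRing A] [HopfAlgebra k A]
    (φ : specGrp (R := k) A ⟶ T) [IsIso φ] [IsMonHom φ] {g : A} (hg : IsGroupLikeElem k g) :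
    ∃ (χ : (pt k k ⟶ T) →* k), IsChar (χ : (pt k k ⟶ T) → k) ∧ ∀ ψ : A →ₐ[k] k, χ (ptMap ψ ≫ jT A ≫ φ) = ψ g := by
  classical
  haveI := isIso_jT (k := k) A
  let fg : Fn T := fnMap (inv (jT (k := k) A ≫ φ)) (fnPt k A g)
  have hval : ∀ {R : Type u} [CommRing R] [Algebra k R] (ψ : A →ₐ[k] R), valAt (ptMap ψ ≫ jT A ≫ φ) fg = ψ g := by
    intro R _ _ ψ
    rw [← valAt_comp, Category.assoc, Category.assoc, ← Category.assoc (jT (k := k) A) φ,
      IsIso.hom_inv_id, Category.comp_id, valAt_ptMap]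
  have hmul : ∀ {R : Type u} [CommRing R] [Algebra k R] (P P' : pt k R ⟶ T),
      valAt (P * P') fg = valAt P fg * valAt P' fg := by
    intro R _ _ P P'
    obtain ⟨ψ, rfl⟩ := exists_univPt φ P
    obtain ⟨ψ', rfl⟩ := exists_univPt φ P'
    rw [ptMap_mul, hval, hval, hval, conv_groupLike ψ ψ' hg]
  obtain ⟨ug, hug⟩ := hg.isUnit
  have hne : ∀ {R : Type u} [CommRing R] [Algebra k R] (P : pt k R ⟶ T), IsUnit (valAt P fg) := by
    intro R _ _ P
    obtain ⟨ψ, rfl⟩ := exists_univPt φ P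
    rw [hval, ← hug]
    exact ug.isUnit.map ψ
  have hone : valAt (1 : pt k k ⟶ T) fg = 1 := by
    have h := hmul (1 : pt k k ⟶ T) 1
    rw [_root_.one_mul] at h
    exact (mul_eq_left₀ (hne _).ne_zero).1 h.symm
  refine ⟨{ toFun := fun P => valAt P fg, map_one' := hone, map_mul' := hmul }, fun l hl => ?_, fun ψ => hval ψ⟩
  obtain ⟨c, d, -, hd⟩ := exists_monomial (hne (gpt (k := k) (unitT k) ≫ l))
  refine ⟨d, fun w => ?_⟩
  have key : ∀ w : kˣ, valAt (gpt (k := k) w ≫ l) fg = c * (w : k) ^ d := by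
    intro w
    have e : ptMap (evalUnit (k := k) w) ≫ gpt (unitT k) ≫ l = gpt (k := k) w ≫ l := by
      rw [← Category.assoc, evalUnit_comp_unitT]
    rw [← e, valAt_ptMap_comp, hd, smul_eq_mul, Units.val_zpow_eq_zpow_val]
  have hc : c = 1 := by
    have h1 := key 1
    rw [gpt_one, Category.assoc, IsMonHom.one_hom, ← Hom.one_def, hone, Units.val_one, one_zpow,
      _root_.mul_one] at h1
    exact h1.symm
  show valAt (gpt (k := k) w ≫ l) fg = _
  rw [key, hc, _root_.one_mul]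

theorem indep {M : Type*} [Monoid M] (J : Finset (M →* k)) (z : (M →* k) → k)
    (h : ∀ t, ∑ χ ∈ J, χ t * z χ = 0) : ∀ χ ∈ J, z χ = 0 := by
  have hli := (linearIndependent_monoidHom M k).comp (fun x : {χ // χ ∈ J} => (x : M →* k)) Subtype.val_injective
  intro χ hχ
  refine Fintype.linearIndependent_iff.1 hli (fun x => z x) (funext fun t => ?_) ⟨χ, hχ⟩
  rw [Finset.sum_apply, Pi.zero_apply, ← h t]
  refine (Finset.sum_coe_sort J (fun χ => z χ * χ t)).trans ?_
  exact Finset.sum_congr rfl fun χ _ => _root_.mul_comm _ _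

variable [IsAlgClosed k] {G X : Over (Spec (CommRingCat.of k))} [GrpObj G] {a : AlgGrp.Action G X}
  {B : GLinSh.LinBun G a}

/-- A function is a weight vector. -/
def IsEig (i : T ⟶ G) (f : Fn B.V) (χ : (pt k k ⟶ T) → k) : Prop :=
  ∀ (t : pt k k ⟶ T) (v : pt k k ⟶ B.V), valAt (lift (t ≫ i) v ≫ B.lift.act) f = χ t * valAt v f

/-- The orbit map of the Hopf model. -/
def orbitMap {A : Type u} [CommRing A] [HopfAlgebra k A] (φ : specGrp (R := k) A ⟶ T) (i : T ⟶ G)
    (B : GLinSh.LinBun G a) : B.V ⊗ pt k A ⟶ B.V :=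
  lift (snd _ _ ≫ jT A ≫ φ ≫ i) (fst _ _) ≫ B.lift.act

omit [IsAlgClosed k] in
theorem exists_tensor {A : Type u} [CommRing A] [HopfAlgebra k A] (φ : specGrp (R := k) A ⟶ T) (i : T ⟶ G)
    [QuasiCompact B.V.hom] [QuasiSeparated B.V.hom] (f : Fn B.V) :
    ∃ z : A ⊗[k] Fn B.V, ∀ (ψ : A →ₐ[k] k) (v : pt k k ⟶ B.V),
      valAt (lift ((ptMap ψ ≫ jT A ≫ φ) ≫ i) v ≫ B.lift.act) f = ev v ψ z := by
  obtain ⟨z, hz⟩ := (bijective_theta (R := A) B.V).2 (fnMap (orbitMap φ i B) f)
  refine ⟨z, fun ψ v => ?_⟩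
  have h := valAt_theta (lift v (ptMap ψ)) ψ (lift_snd _ _) z
  rw [hz, ← valAt_comp, lift_fst] at h
  rw [← h]
  congr 2
  simp only [orbitMap, comp_lift_assoc, lift_snd_assoc, lift_fst, Category.assoc]

theorem exists_expansion {A : Type u} [CommRing A] [HopfAlgebra k A] (hA : HopfRep.IsDiagonalizable k A)
    (φ : specGrp (R := k) A ⟶ T) [IsIso φ] [IsMonHom φ] (z : A ⊗[k] Fn B.V) :
    ∃ (N : ℕ) (χ : Fin N → ((pt k k ⟶ T) →* k)) (b : Fin N → Fn B.V), (∀ r, IsChar (χ r : (pt k k ⟶ T) → k)) ∧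
      ∀ (ψ : A →ₐ[k] k) (v : pt k k ⟶ B.V), ev v ψ z = ∑ r, χ r (ptMap ψ ≫ jT A ≫ φ) * valAt v (b r) := by
  induction z using TensorProduct.induction_on with
  | zero => exact ⟨0, Fin.elim0, Fin.elim0, fun r => r.elim0, fun ψ v => by simp⟩
  | add z z' h h' =>
    obtain ⟨N, χ, b, hχ, hb⟩ := h
    obtain ⟨N', χ', b', hχ', hb'⟩ := h'
    refine ⟨N + N', Fin.append χ χ', Fin.append b b', fun r => ?_, fun ψ v => ?_⟩
    · refine Fin.addCases (fun r => ?_) (fun r => ?_) r
      · rw [Fin.append_left]; exact hχ r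
      · rw [Fin.append_right]; exact hχ' r
    · rw [map_add, hb, hb', Fin.sum_univ_add]
      simp only [Fin.append_left, Fin.append_right]
  | tmul x m =>
    have hx : x ∈ Submodule.span k {g : A | IsGroupLikeElem k g} :=
      (hA : Submodule.span k {g : A | IsGroupLikeElem k g} = ⊤) ▸ Submodule.mem_top
    induction hx using Submodule.span_induction with
    | mem g hg =>
      obtain ⟨χ, hχ, hval⟩ := exists_char φ hg
      exact ⟨1, fun _ => χ, fun _ => m, fun _ => hχ, fun ψ v => by rw [ev_tmul, Fin.sum_univ_one, hval]⟩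
    | zero => exact ⟨0, Fin.elim0, Fin.elim0, fun r => r.elim0, fun ψ v => by simp⟩
    | add x y _ _ h h' =>
      obtain ⟨N, χ, b, hχ, hb⟩ := h
      obtain ⟨N', χ', b', hχ', hb'⟩ := h'
      refine ⟨N + N', Fin.append χ χ', Fin.append b b', fun r => ?_, fun ψ v => ?_⟩
      · refine Fin.addCases (fun r => ?_) (fun r => ?_) r
        · rw [Fin.append_left]; exact hχ r
        · rw [Fin.append_right]; exact hχ' r
      · rw [TensorProduct.add_tmul, map_add, hb, hb', Fin.sum_univ_add]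
        simp only [Fin.append_left, Fin.append_right]
    | smul c x _ h =>
      obtain ⟨N, χ, b, hχ, hb⟩ := h
      refine ⟨N, χ, fun r => c • b r, hχ, fun ψ v => ?_⟩
      rw [← TensorProduct.smul_tmul', map_smul, hb, Finset.smul_sum]
      refine Finset.sum_congr rfl fun r _ => ?_
      rw [map_smul, smul_eq_mul, smul_eq_mul]
      ring

/-- Every homogeneous function is a sum of homogeneous weight vectors. -/
theorem exists_decomp [QuasiCompact B.V.hom] [QuasiSeparated B.V.hom] [IsAffineHom B.π.left] (hT : Red.IsTorus T)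
    (i : T ⟶ G) [IsMonHom i] {n : ℕ} {f : Fn B.V} (hf : Homog B n f) :
    ∃ (J : Finset ((pt k k ⟶ T) →* k)) (b : ((pt k k ⟶ T) →* k) → Fn B.V),
      (∀ χ ∈ J, IsChar (χ : (pt k k ⟶ T) → k) ∧ IsEig i (b χ) (χ : (pt k k ⟶ T) → k) ∧ Homog B n (b χ)) ∧
      ∀ v : pt k k ⟶ B.V, valAt v f = ∑ χ ∈ J, valAt v (b χ) := by
  classical
  haveI : IsAffine T.left := (GrothLib.OneMotFaith14.isAffine_of_isTorus hT).1
  obtain ⟨A, _, _, ⟨e⟩⟩ := exists_hopf T (isAffineHom_of_isAffine T.hom)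
  have hA := GrothLib.OneMotFaith14.isDiagonalizable_torus e hT
  let φ : specGrp (R := k) A ⟶ T := ((Grp.forget _).mapIso e).hom
  haveI : IsMonHom φ := inferInstanceAs (IsMonHom e.hom.hom.hom)
  haveI : IsIso φ := Iso.isIso_hom _
  obtain ⟨z, hz⟩ := exists_tensor φ i f
  obtain ⟨N, χ, b₀, hχ, hb₀⟩ := exists_expansion hA φ z
  let J : Finset ((pt k k ⟶ T) →* k) := Finset.univ.image χ
  let b : ((pt k k ⟶ T) →* k) → Fn B.V := fun ξ => ∑ r ∈ Finset.univ.filter (fun r => χ r = ξ), b₀ r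
  have hexp : ∀ (t : pt k k ⟶ T) (v : pt k k ⟶ B.V),
      valAt (lift (t ≫ i) v ≫ B.lift.act) f = ∑ ξ ∈ J, ξ t * valAt v (b ξ) := by
    intro t v
    obtain ⟨ψ, rfl⟩ := exists_univPt φ t
    rw [hz, hb₀, ← Finset.sum_fiberwise_of_maps_to (t := J) (g := χ)
      (fun r _ => Finset.mem_image_of_mem χ (Finset.mem_univ r))]
    refine Finset.sum_congr rfl fun ξ _ => ?_
    simp only [b, map_sum, Finset.mul_sum]
    exact Finset.sum_congr rfl fun r hr => by rw [(Finset.mem_filter.1 hr).2]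
  have hsum : ∀ v : pt k k ⟶ B.V, valAt v f = ∑ ξ ∈ J, valAt v (b ξ) := by
    intro v
    have h := hexp 1 v
    rw [MonObj.one_comp, GrothLib.MuFun27.lift_act_one] at h
    rw [h]
    exact Finset.sum_congr rfl fun ξ _ => by rw [map_one, _root_.one_mul]
  refine ⟨J, b, fun ξ hξ => ⟨?_, fun t v => ?_, fun U Y hY v v' h h' hπ => ?_⟩, hsum⟩
  · obtain ⟨r, -, rfl⟩ := Finset.mem_image.1 hξ
    exact hχ r
  · have hz0 := indep J (fun ζ => valAt (lift (t ≫ i) v ≫ B.lift.act) (b ζ) - ζ t * valAt v (b ζ)) (fun s => ?_) ξ hξ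
    · exact sub_eq_zero.1 hz0
    · have h1 := hexp s (lift (t ≫ i) v ≫ B.lift.act)
      rw [← GrothLib.MuFun27.lift_act_mul, ← MonObj.mul_comp, hexp (s * t) v] at h1
      simp only [mul_sub, Finset.sum_sub_distrib, ← h1, map_mul, _root_.mul_assoc, sub_self]
  · have hz0 := indep J (fun ζ => valAt v (b ζ) * crd B.π Y v' h' ^ n - valAt v' (b ζ) * crd B.π Y v h ^ n)
      (fun s => ?_) ξ hξ
    · exact sub_eq_zero.1 hz0
    · have h1 := hf.translate (s ≫ i) hY h h' hπ
      rw [hexp s v, hexp s v', Finset.sum_mul, Finset.sum_mul] at h1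
      simp only [mul_sub, Finset.sum_sub_distrib, ← _root_.mul_assoc, h1, sub_self]

end GrothLib.GitMu15
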