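import Groth.Agent.Lib.GitMu15.Gm

/-!
# Homogeneous functions and the weight on the fibre at a fixed point
-/

set_option autoImplicit false
set_option maxHeartbeats 800000
set_option backward.isDefEq.respectTransparency false
set_option backward.isDefEq.respectTransparency.types false

universe u

open CategoryTheory CategoryTheory.Limits MonoidalCategory CartesianMonoidalCategory MonObj AlgebraicGeometry
open Opposite VecGrp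

noncomputable section

namespace GrothLib.GitMu15

open GrothLib.Repr GrothLib.Induce27 GrothLib.MagnetPts GrothLib.MuFun27 Groth.Agent.S11191

attribute [local instance 2000] Algebra.toModule

variable {k : Type u} [Field k] {G X : Over (Spec (CommRingCat.of k))} [GrpObj G] {a : AlgGrp.Action G X}
  (B : GLinSh.LinBun G a)

instance subsingleton_pt : Subsingleton ↥(pt k k).left := inferInstanceAs (Subsingleton (PrimeSpectrum k))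

instance nonempty_pt : Nonempty ↥(pt k k).left := inferInstanceAs (Nonempty (PrimeSpectrum k))

theorem preimage_eq_top (p : pt k k ⟶ X) {U : X.left.Opens} {q : ↥(pt k k).left} (h : p.left q ∈ U) :
    p.left ⁻¹ᵁ U = ⊤ :=
  top_unique fun r _ => by rw [Subsingleton.elim r q]; exact h

theorem exists_chart_affine (p : pt k k ⟶ X) :
    ∃ (U : X.left.Opens) (Y : Γ(B.V.left, B.π.left ⁻¹ᵁ U)) (W : X.left.Opens), Y ∈ B.atlas.chart U ∧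
      IsAffineOpen W ∧ W ≤ U ∧ p.left ⁻¹ᵁ W = ⊤ := by
  obtain ⟨q⟩ := (nonempty_pt (k := k))
  obtain ⟨U, hU, Y, hY⟩ := B.atlas.cover (p.left q)
  obtain ⟨_, ⟨W, hW, rfl⟩, hqW, hWU⟩ := X.left.isBasis_affineOpens.exists_subset_of_mem_open hU U.2
  exact ⟨U, Y, W, hY, hW, hWU, preimage_eq_top p hqW⟩

theorem le_of_preimage_eq_top {R : Type u} [CommRing R] [Algebra k R] {p : pt k R ⟶ X} {v : pt k R ⟶ B.V}
    (hv : v ≫ B.π = p) {W U : X.left.Opens} (hWU : W ≤ U) (hp : p.left ⁻¹ᵁ W = ⊤) :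
    ⊤ ≤ v.left ⁻¹ᵁ (B.π.left ⁻¹ᵁ U) := by
  intro r _
  have h : r ∈ (v ≫ B.π).left ⁻¹ᵁ W := by rw [hv, hp]; trivial
  exact hWU h

/-- Homogeneity of weight `n` on rational points. -/
def Homog (n : ℕ) (f : Fn B.V) : Prop :=
  ∀ (U : X.left.Opens) (Y : Γ(B.V.left, B.π.left ⁻¹ᵁ U)), Y ∈ B.atlas.chart U →
    ∀ (v v' : pt k k ⟶ B.V) (h : ⊤ ≤ v.left ⁻¹ᵁ (B.π.left ⁻¹ᵁ U)) (h' : ⊤ ≤ v'.left ⁻¹ᵁ (B.π.left ⁻¹ᵁ U)),
      v ≫ B.π = v' ≫ B.π → valAt v f * crd B.π Y v' h' ^ n = valAt v' f * crd B.π Y v h ^ n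

/-- Non-vanishing over a rational point. -/
def NV (f : Fn B.V) (p : pt k k ⟶ X) : Prop := ∃ v : pt k k ⟶ B.V, v ≫ B.π = p ∧ valAt v f ≠ 0

variable {B}

theorem Homog.eq_scale {n : ℕ} {f : Fn B.V} (hf : Homog B n f) {U : X.left.Opens}
    {Y : Γ(B.V.left, B.π.left ⁻¹ᵁ U)} (hY : Y ∈ B.atlas.chart U) {v v₁ : pt k k ⟶ B.V}
    (h : ⊤ ≤ v.left ⁻¹ᵁ (B.π.left ⁻¹ᵁ U)) (h₁ : ⊤ ≤ v₁.left ⁻¹ᵁ (B.π.left ⁻¹ᵁ U))
    (hπ : v ≫ B.π = v₁ ≫ B.π) (hone : crd B.π Y v₁ h₁ = 1) :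
    valAt v f = valAt v₁ f * crd B.π Y v h ^ n := by
  have := hf U Y hY v v₁ h h₁ hπ
  rwa [hone, one_pow, _root_.mul_one] at this

theorem Homog.ne_zero_of_nv {n : ℕ} {f : Fn B.V} (hf : Homog B n f) {p : pt k k ⟶ X} (hnv : NV B f p)
    {U : X.left.Opens} {Y : Γ(B.V.left, B.π.left ⁻¹ᵁ U)} (hY : Y ∈ B.atlas.chart U) {v₁ : pt k k ⟶ B.V}
    (h₁ : ⊤ ≤ v₁.left ⁻¹ᵁ (B.π.left ⁻¹ᵁ U)) (hv₁ : v₁ ≫ B.π = p) (hone : crd B.π Y v₁ h₁ = 1) :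
    valAt v₁ f ≠ 0 := by
  obtain ⟨v, hv, hne⟩ := hnv
  have h : ⊤ ≤ v.left ⁻¹ᵁ (B.π.left ⁻¹ᵁ U) := by
    rw [show v.left ⁻¹ᵁ (B.π.left ⁻¹ᵁ U) = (v ≫ B.π).left ⁻¹ᵁ U from rfl, hv, ← hv₁]
    exact h₁
  intro h0
  apply hne
  rw [hf.eq_scale hY h h₁ (hv.trans hv₁.symm) hone, h0, zero_mul]

theorem eq_eval {R : Type u} [CommRing R] [Algebra k R] (v : pt k R ⟶ B.V) (f : Fn B.V) {U : X.left.Opens}
    (h : ⊤ ≤ v.left ⁻¹ᵁ (B.π.left ⁻¹ᵁ U)) :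
    fnPt k R (valAt v f) = v.left.appLE (B.π.left ⁻¹ᵁ U) ⊤ h (GLinSh.resTop B.π U f) := by
  rw [fnPt_valAt]
  show v.left.appTop f = _
  simp only [GLinSh.resTop, Scheme.Hom.appTop, ← Scheme.Hom.appLE_eq_app, ← CommRingCat.comp_apply,
    Scheme.Hom.map_appLE]
  rfl

theorem homog_of_hasWeight {n : ℕ} {f : Fn B.V} (hf : GLinSh.HasWeight B.atlas.chart n f) : Homog B n f := by
  intro U Y hY v v' h h' hπ
  obtain ⟨c, hc⟩ := hf U Y hY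
  have key : ∀ (w : pt k k ⟶ B.V) (hw : ⊤ ≤ w.left ⁻¹ᵁ (B.π.left ⁻¹ᵁ U)),
      fnPt k k (valAt w f) =
        (show Fn (pt k k) from (w ≫ B.π).left.appLE U ⊤ hw c) * fnPt k k (crd B.π Y w hw) ^ n := by
    intro w hw
    rw [eq_eval w f hw, hc, map_mul, map_pow, fnPt_crd]
    simp only [← Scheme.Hom.appLE_eq_app, ← CommRingCat.comp_apply, Scheme.Hom.appLE_comp_appLE, Over.comp_left]
    rfl
  apply (fnPtEquiv k k).injective
  rw [fnPtEquiv_apply, fnPtEquiv_apply, map_mul, map_mul, map_pow, map_pow, key v h, key v' h']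
  have e : ∀ (p p' : pt k k ⟶ X), p = p' → ∀ (hp : ⊤ ≤ p.left ⁻¹ᵁ U) (hp' : ⊤ ≤ p'.left ⁻¹ᵁ U),
      p.left.appLE U ⊤ hp c = p'.left.appLE U ⊤ hp' c := by
    intro p p' hpp hp hp'
    subst hpp
    rfl
  have := e _ _ hπ h h'
  rw [this]
  ring

theorem nv_of_mem_nonvanishing [IsAffineHom B.π.left] {n : ℕ} {f : Fn B.V}
    (hf : GLinSh.HasWeight B.atlas.chart n f) (p : pt k k ⟶ X) (q : ↥(pt k k).left)
    (hq : p.left q ∈ GLinSh.nonvanishing B.π f) : NV B f p := by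
  obtain ⟨U, Y, W, hY, hW, hWU, hpW⟩ := exists_chart_affine B p
  obtain ⟨v, h, hvπ, hone⟩ := exists_over (B.atlas.coord U Y hY) hW hWU p hpW (1 : k)
  obtain ⟨c, hc⟩ := hf U Y hY
  refine ⟨v, hvπ, fun h0 => ?_⟩
  obtain ⟨z, hz, hzq⟩ := hq
  have hqU : p.left q ∈ U := hWU (show q ∈ p.left ⁻¹ᵁ W by rw [hpW]; trivial)
  have hzU : z ∈ B.π.left ⁻¹ᵁ U := by
    show B.π.left z ∈ U
    rw [hzq]; exact hqU
  have hz1 : z ∈ B.V.left.basicOpen (GLinSh.resTop B.π U f) := by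
    rw [show GLinSh.resTop B.π U f = B.V.left.presheaf.map (homOfLE le_top).op f from rfl, Scheme.basicOpen_res]
    exact ⟨hzU, hz⟩
  rw [hc, Scheme.basicOpen_mul, show B.π.left.app U c = (B.π.left.app U) c from rfl,
    ← Scheme.preimage_basicOpen] at hz1
  have hpc : p.left q ∈ X.left.basicOpen c := by
    rw [← hzq]; exact hz1.1
  have h2 : fnPt k k (valAt v f) = p.left.appLE U ⊤ (fun r _ => by rw [Subsingleton.elim r q]; exact hqU) c := by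
    rw [eq_eval v f h, hc, map_mul, map_pow, ← show HMNum.evalFn B.π Y v h = v.left.appLE _ ⊤ h Y from rfl,
      ← fnPt_crd, hone, map_one, one_pow, _root_.mul_one]
    simp only [← Scheme.Hom.appLE_eq_app, ← CommRingCat.comp_apply, Scheme.Hom.appLE_comp_appLE]
    subst hvπ
    rfl
  rw [h0, map_zero] at h2
  have hb : q ∈ (pt k k).left.basicOpen
      (p.left.appLE U ⊤ (fun r _ => by rw [Subsingleton.elim r q]; exact hqU) c) := by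
    rw [Scheme.basicOpen_appLE]
    exact ⟨trivial, hpc⟩
  rw [← h2] at hb
  exact (Scheme.basicOpen_zero (pt k k).left ⊤).le hb

/-- The multiplier of the lifted action. -/
theorem exists_coeff {U U' : X.left.Opens} {y : Γ(B.V.left, B.π.left ⁻¹ᵁ U)} {y' : Γ(B.V.left, B.π.left ⁻¹ᵁ U')}
    (hy : y ∈ B.atlas.chart U) (hy' : y' ∈ B.atlas.chart U') :
    ∃ c, ∀ (T : Over (Spec (CommRingCat.of k))) (g : T ⟶ G) (v : T ⟶ B.V)
      (hv : ⊤ ≤ v.left ⁻¹ᵁ (B.π.left ⁻¹ᵁ U)) (hgv : ⊤ ≤ (lift g v ≫ B.lift.act).left ⁻¹ᵁ (B.π.left ⁻¹ᵁ U'))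
      (x : T ⟶ X) (_ : v ≫ B.π = x)
      (hx : ⊤ ≤ (lift g x).left ⁻¹ᵁ (a.act.left ⁻¹ᵁ U' ⊓ (snd G X).left ⁻¹ᵁ U)),
      HMNum.evalFn B.π y' (lift g v ≫ B.lift.act) hgv =
        (lift g x).left.appLE _ ⊤ hx c * HMNum.evalFn B.π y v hv := by
  obtain ⟨c, hc⟩ := B.lift_linear U U' y y' hy hy'
  refine ⟨c, fun T g v hv hgv x hvx hx => ?_⟩
  subst hvx
  have hz : ⊤ ≤ (lift g v).left ⁻¹ᵁ GLinSh.liftOpen a B.π U U' := by
    have e : (lift g v).left ⁻¹ᵁ GLinSh.liftOpen a B.π U U' =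
        (lift g v ≫ (G ◁ B.π)).left ⁻¹ᵁ (a.act.left ⁻¹ᵁ U' ⊓ (snd G X).left ⁻¹ᵁ U) := rfl
    rw [e, lift_whiskerLeft]
    exact hx
  have h := congrArg (fun z => (lift g v).left.appLE (GLinSh.liftOpen a B.π U U') ⊤ hz z) hc
  simp only [map_mul] at h
  rw [← CommRingCat.comp_apply, ← CommRingCat.comp_apply, ← CommRingCat.comp_apply, Scheme.Hom.appLE_comp_appLE,
    Scheme.Hom.appLE_comp_appLE, Scheme.Hom.appLE_comp_appLE] at h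
  simp only [← Over.comp_left, lift_snd, lift_whiskerLeft] at h
  exact h

theorem coeff_open {T : Over (Spec (CommRingCat.of k))} {U U' : X.left.Opens} {g : T ⟶ G} {x : T ⟶ X}
    (hx : ⊤ ≤ x.left ⁻¹ᵁ U) (hgx : ⊤ ≤ (lift g x ≫ a.act).left ⁻¹ᵁ U') :
    ⊤ ≤ (lift g x).left ⁻¹ᵁ (a.act.left ⁻¹ᵁ U' ⊓ (snd G X).left ⁻¹ᵁ U) := by
  intro p hp
  refine ⟨hgx hp, ?_⟩
  have : p ∈ x.left ⁻¹ᵁ U := hx hp
  rwa [← lift_snd g x] at this

/-- Translation multiplies fibre coordinates by a nonzero scalar. -/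
theorem exists_scalar [IsAffineHom B.π.left] (t : pt k k ⟶ G) (p : pt k k ⟶ X) {U U' : X.left.Opens}
    {Y : Γ(B.V.left, B.π.left ⁻¹ᵁ U)} {Y' : Γ(B.V.left, B.π.left ⁻¹ᵁ U')} (hY : Y ∈ B.atlas.chart U)
    (hY' : Y' ∈ B.atlas.chart U') {W : X.left.Opens} (hW : IsAffineOpen W) (hWU : W ≤ U)
    (hpW : p.left ⁻¹ᵁ W = ⊤) (htp : ⊤ ≤ (lift t p ≫ a.act).left ⁻¹ᵁ U') :
    ∃ F : k, F ≠ 0 ∧ ∀ (v : pt k k ⟶ B.V) (h : ⊤ ≤ v.left ⁻¹ᵁ (B.π.left ⁻¹ᵁ U))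
      (h' : ⊤ ≤ (lift t v ≫ B.lift.act).left ⁻¹ᵁ (B.π.left ⁻¹ᵁ U')), v ≫ B.π = p →
      crd B.π Y' (lift t v ≫ B.lift.act) h' = F * crd B.π Y v h := by
  obtain ⟨c, hc⟩ := exists_coeff hY hY'
  have hx : ⊤ ≤ p.left ⁻¹ᵁ U := fun r hr => hWU (show r ∈ p.left ⁻¹ᵁ W by rw [hpW]; trivial)
  let F : k := (fnPtEquiv k k).symm ((lift t p).left.appLE _ ⊤ (coeff_open hx htp) c)
  have key : ∀ (v : pt k k ⟶ B.V) (h : ⊤ ≤ v.left ⁻¹ᵁ (B.π.left ⁻¹ᵁ U))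
      (h' : ⊤ ≤ (lift t v ≫ B.lift.act).left ⁻¹ᵁ (B.π.left ⁻¹ᵁ U')), v ≫ B.π = p →
      crd B.π Y' (lift t v ≫ B.lift.act) h' = F * crd B.π Y v h := by
    intro v h h' hv
    apply (fnPtEquiv k k).injective
    rw [map_mul]
    simp only [F, crd, AlgEquiv.apply_symm_apply]
    exact hc _ t v h h' p hv (coeff_open hx htp)
  refine ⟨F, fun hF => ?_, key⟩
  obtain ⟨v₁, h₁, hv₁, hone⟩ := exists_over (B.atlas.coord U Y hY) hW hWU p hpW (1 : k)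
  obtain ⟨v₀, h₀, hv₀, hzero⟩ := exists_over (B.atlas.coord U Y hY) hW hWU p hpW (0 : k)
  have hl : ∀ v : pt k k ⟶ B.V, v ≫ B.π = p →
      ⊤ ≤ (lift t v ≫ B.lift.act).left ⁻¹ᵁ (B.π.left ⁻¹ᵁ U') := by
    intro v hv
    rw [show (lift t v ≫ B.lift.act).left ⁻¹ᵁ (B.π.left ⁻¹ᵁ U') =
      ((lift t v ≫ B.lift.act) ≫ B.π).left ⁻¹ᵁ U' from rfl, act_π B.lift_π, hv]
    exact htp
  obtain ⟨q⟩ := (nonempty_pt (k := k))
  obtain ⟨_, ⟨W', hW', rfl⟩, hqW', hW'U'⟩ :=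
    X.left.isBasis_affineOpens.exists_subset_of_mem_open (htp (Set.mem_univ q)) U'.2
  have e : lift t v₁ ≫ B.lift.act = lift t v₀ ≫ B.lift.act :=
    hom_ext_over (B.atlas.coord U' Y' hY') hW' hW'U' (hl v₁ hv₁) (hl v₀ hv₀)
      (by rw [act_π B.lift_π, hv₁]; exact preimage_eq_top _ hqW')
      (by rw [act_π B.lift_π, act_π B.lift_π, hv₁, hv₀])
      (by rw [key v₁ h₁ _ hv₁, key v₀ h₀ _ hv₀, hF, zero_mul, zero_mul])
  have e2 := congrArg (fun w => lift t⁻¹ w ≫ B.lift.act) e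
  simp only [← GrothLib.MuFun27.lift_act_mul, inv_mul_cancel, GrothLib.MuFun27.lift_act_one] at e2
  subst e2
  rw [hone] at hzero
  exact one_ne_zero hzero

/-- Translates of homogeneous functions are homogeneous. -/
theorem Homog.translate [IsAffineHom B.π.left] {n : ℕ} {f : Fn B.V} (hf : Homog B n f) (t : pt k k ⟶ G)
    {U : X.left.Opens} {Y : Γ(B.V.left, B.π.left ⁻¹ᵁ U)} (hY : Y ∈ B.atlas.chart U) {v v' : pt k k ⟶ B.V}
    (h : ⊤ ≤ v.left ⁻¹ᵁ (B.π.left ⁻¹ᵁ U)) (h' : ⊤ ≤ v'.left ⁻¹ᵁ (B.π.left ⁻¹ᵁ U)) (hπ : v ≫ B.π = v' ≫ B.π) :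
    valAt (lift t v ≫ B.lift.act) f * crd B.π Y v' h' ^ n =
      valAt (lift t v' ≫ B.lift.act) f * crd B.π Y v h ^ n := by
  obtain ⟨U', Y', W', hY', hW', hWU', hpW'⟩ := exists_chart_affine B (lift t (v ≫ B.π) ≫ a.act)
  obtain ⟨q⟩ := (nonempty_pt (k := k))
  obtain ⟨_, ⟨W, hW, rfl⟩, hqW, hWU⟩ :=
    X.left.isBasis_affineOpens.exists_subset_of_mem_open (show (v ≫ B.π).left q ∈ U from h (Set.mem_univ q)) U.2
  have htp : ⊤ ≤ (lift t (v ≫ B.π) ≫ a.act).left ⁻¹ᵁ U' := fun r hr =>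
    hWU' (show r ∈ (lift t (v ≫ B.π) ≫ a.act).left ⁻¹ᵁ W' by rw [hpW']; trivial)
  obtain ⟨F, hF, key⟩ := exists_scalar t (v ≫ B.π) hY hY' hW hWU (preimage_eq_top _ hqW) htp
  have hl : ∀ w : pt k k ⟶ B.V, w ≫ B.π = v ≫ B.π →
      ⊤ ≤ (lift t w ≫ B.lift.act).left ⁻¹ᵁ (B.π.left ⁻¹ᵁ U') := by
    intro w hw
    rw [show (lift t w ≫ B.lift.act).left ⁻¹ᵁ (B.π.left ⁻¹ᵁ U') =
      ((lift t w ≫ B.lift.act) ≫ B.π).left ⁻¹ᵁ U' from rfl, act_π B.lift_π, hw]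
    exact htp
  have h0 := hf U' Y' hY' _ _ (hl v rfl) (hl v' hπ.symm) (by rw [act_π B.lift_π, act_π B.lift_π, hπ])
  rw [key v h _ rfl, key v' h' _ hπ.symm, mul_pow, mul_pow] at h0
  refine mul_left_cancel₀ (pow_ne_zero n hF) ?_
  linear_combination h0

/-- The multiplier along a one-parameter subgroup at a fixed point. -/
theorem exists_multiplier {l : Red.Gm (Spec (CommRingCat.of k)) ⟶ G}
    {y : 𝟙_ (Over (Spec (CommRingCat.of k))) ⟶ X} (hfix : HMNum.IsFixedBy a l y) {U : X.left.Opens}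
    {Y : Γ(B.V.left, B.π.left ⁻¹ᵁ U)} (hY : Y ∈ B.atlas.chart U) (hU : y.left ⁻¹ᵁ U = ⊤)
    {P : Over (Spec (CommRingCat.of k))} (u : P ⟶ Red.Gm (Spec (CommRingCat.of k))) [IsIso u] :
    ∃ e : Γ(P.left, ⊤), ∀ (T' : Over (Spec (CommRingCat.of k))) (t : T' ⟶ 𝟙_ _)
      (g : T' ⟶ Red.Gm (Spec (CommRingCat.of k))) (v : T' ⟶ B.V) (hv : v ≫ B.π = t ≫ y)
      (hgv : (lift (g ≫ l) v ≫ B.lift.act) ≫ B.π = t ≫ y),
      HMNum.evalFn B.π Y (lift (g ≫ l) v ≫ B.lift.act) (HMNum.top_le_preimage B.π hU hgv) =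
        (g ≫ inv u).left.appTop e * HMNum.evalFn B.π Y v (HMNum.top_le_preimage B.π hU hv) := by
  obtain ⟨c, hc⟩ := exists_coeff hY hY
  have hyU : ∀ {T' : Over (Spec (CommRingCat.of k))} (t : T' ⟶ 𝟙_ _), ⊤ ≤ (t ≫ y).left ⁻¹ᵁ U := by
    intro T' t
    rw [show (t ≫ y).left ⁻¹ᵁ U = t.left ⁻¹ᵁ (y.left ⁻¹ᵁ U) from rfl, hU]
    exact le_top
  have hopen : ∀ {T' : Over (Spec (CommRingCat.of k))} (t : T' ⟶ 𝟙_ _) (g : T' ⟶ Red.Gm (Spec (CommRingCat.of k))),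
      ⊤ ≤ (lift (g ≫ l) (t ≫ y)).left ⁻¹ᵁ (a.act.left ⁻¹ᵁ U ⊓ (snd G X).left ⁻¹ᵁ U) := fun t g =>
    coeff_open (hyU t) (by rw [hfix _ t g]; exact hyU t)
  refine ⟨(lift (u ≫ l) (toUnit P ≫ y)).left.appLE _ ⊤ (hopen _ _) c, fun T' t g v hv hgv => ?_⟩
  rw [hc T' (g ≫ l) v (HMNum.top_le_preimage B.π hU hv) (HMNum.top_le_preimage B.π hU hgv) (t ≫ y) hv (hopen t g)]
  congr 1
  have e1 : lift (g ≫ l) (t ≫ y) = (g ≫ inv u) ≫ lift (u ≫ l) (toUnit P ≫ y) := by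
    rw [comp_lift, ← Category.assoc (g ≫ inv u) u l, Category.assoc g, IsIso.inv_hom_id, Category.comp_id,
      ← Category.assoc _ (toUnit P) y, toUnit_unique (_ ≫ toUnit P) t]
  have key : ∀ (f : T' ⟶ G ⊗ X) (hf : ⊤ ≤ f.left ⁻¹ᵁ (a.act.left ⁻¹ᵁ U ⊓ (snd G X).left ⁻¹ᵁ U)),
      f = (g ≫ inv u) ≫ lift (u ≫ l) (toUnit P ≫ y) →
      f.left.appLE _ ⊤ hf c = (g ≫ inv u).left.appTop ((lift (u ≫ l) (toUnit P ≫ y)).left.appLE _ ⊤ (hopen _ _) c) := by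
    intro f hf hfe
    subst hfe
    rw [← CommRingCat.comp_apply]
    simp only [Over.comp_left, Scheme.Hom.appTop, ← Scheme.Hom.appLE_eq_app, Scheme.Hom.preimage_top,
      Scheme.Hom.appLE_comp_appLE]
  exact key _ _ e1

theorem appTop_fnPt {R : Type u} [CommRing R] [Algebra k R] [IsIso (gpt (k := k) (unitT k))] (w : Rˣ)
    (e : LaurentPolynomial k) :
    (gpt (k := k) w ≫ inv (gpt (k := k) (unitT k))).left.appTop (fnPt k (LaurentPolynomial k) e) =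
      fnPt k R (evalUnit w e) := by
  rw [← evalUnit_comp_unitT w, Category.assoc, IsIso.hom_inv_id, Category.comp_id]
  exact fnMap_ptMap _ _

theorem evalUnit_unitT_self : evalUnit (k := k) (unitT k) = AlgHom.id k (LaurentPolynomial k) :=
  laurent_algHom_ext (by rw [evalUnit_T]; rfl)

theorem unitOfPt_zpow [IsIso (gpt (k := k) (unitT k))] {T' : Over (Spec (CommRingCat.of k))}
    (g : T' ⟶ Red.Gm (Spec (CommRingCat.of k))) (d : ℤ) :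
    ((GmPts.unitOfPt g ^ d : (Γ(T'.left, ⊤))ˣ) : Γ(T'.left, ⊤)) =
      (g ≫ inv (gpt (k := k) (unitT k))).left.appTop
        (fnPt k (LaurentPolynomial k) ((unitT k ^ d : (LaurentPolynomial k)ˣ) : LaurentPolynomial k)) := by
  let ψ : LaurentPolynomial k →* Γ(T'.left, ⊤) :=
    ((g ≫ inv (gpt (k := k) (unitT k))).left.appTop.hom.comp (fnPt k (LaurentPolynomial k)).toRingHom).toMonoidHom
  have hu : GmPts.unitOfPt g = Units.map ψ (unitT k) := by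
    refine Units.ext ?_
    show (GmPts.unitOfPt g : Γ(T'.left, ⊤)) =
      (g ≫ inv (gpt (k := k) (unitT k))).left.appTop (fnPt k (LaurentPolynomial k) (unitT k : LaurentPolynomial k))
    rw [← unitOfPt_gpt, GmPts.val_unitOfPt, GmPts.val_unitOfPt, ← GmPts.gmFn_comp]
    congr 1
    simp only [Category.assoc, IsIso.inv_hom_id, Category.comp_id]
  rw [hu, ← map_zpow]
  rfl

/-- A function reading the action on a fibre coordinate is multiplicative. -/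
theorem fibre_mul_inv [IsAffineHom B.π.left] {l : Red.Gm (Spec (CommRingCat.of k)) ⟶ G} [IsMonHom l]
    {y : 𝟙_ (Over (Spec (CommRingCat.of k))) ⟶ X} (hfix : HMNum.IsFixedBy a l y) {U W : X.left.Opens}
    {Y : Γ(B.V.left, B.π.left ⁻¹ᵁ U)} (hY : Y ∈ B.atlas.chart U) (hW : IsAffineOpen W) (hWU : W ≤ U)
    {R : Type u} [CommRing R] [Algebra k R] (hyW : (toUnit (pt k R) ≫ y).left ⁻¹ᵁ W = ⊤) (ev : Rˣ → R)
    (hrec : ∀ (w : Rˣ) (v : pt k R ⟶ B.V) (h : ⊤ ≤ v.left ⁻¹ᵁ (B.π.left ⁻¹ᵁ U))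
      (_ : v ≫ B.π = toUnit (pt k R) ≫ y)
      (h' : ⊤ ≤ (lift (gpt (k := k) w ≫ l) v ≫ B.lift.act).left ⁻¹ᵁ (B.π.left ⁻¹ᵁ U)),
      crd B.π Y (lift (gpt (k := k) w ≫ l) v ≫ B.lift.act) h' = ev w * crd B.π Y v h) (w : Rˣ) :
    ev w⁻¹ * ev w = 1 ∧ ev 1 = 1 := by
  obtain ⟨v₁, h₁, hv₁, hc₁⟩ := exists_over (B.atlas.coord U Y hY) hW hWU (toUnit (pt k R) ≫ y) hyW (1 : R)
  have hπ' : ∀ (w : Rˣ) (v : pt k R ⟶ B.V), v ≫ B.π = toUnit (pt k R) ≫ y →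
      (lift (gpt (k := k) w ≫ l) v ≫ B.lift.act) ≫ B.π = toUnit (pt k R) ≫ y := by
    intro w v hv
    rw [act_π B.lift_π, hv, hfix _ _ _]
  have hone : (gpt (k := k) (1 : Rˣ) ≫ l) = toUnit (pt k R) ≫ η[G] := by
    rw [gpt_one, Category.assoc, IsMonHom.one_hom]
  have key : ∀ (v' : pt k R ⟶ B.V) (hle : ⊤ ≤ v'.left ⁻¹ᵁ (B.π.left ⁻¹ᵁ U)),
      v' = v₁ → crd B.π Y v' hle = 1 := by
    intro v' hle hv'
    subst hv'
    exact hc₁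
  have h4 : lift (gpt (k := k) w⁻¹ ≫ l) (lift (gpt (k := k) w ≫ l) v₁ ≫ B.lift.act) ≫ B.lift.act = v₁ := by
    rw [← GrothLib.MuFun27.lift_act_mul, ← MonObj.mul_comp, ← gpt_mul, inv_mul_cancel, hone, ← Hom.one_def]
    exact GrothLib.MuFun27.lift_act_one _ _
  have h4' : lift (gpt (k := k) (1 : Rˣ) ≫ l) v₁ ≫ B.lift.act = v₁ := by
    rw [hone, ← Hom.one_def]
    exact GrothLib.MuFun27.lift_act_one _ _
  have hv₂ := hπ' w v₁ hv₁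
  have hv₃ := hπ' w⁻¹ _ hv₂
  have h5 := hrec w⁻¹ _ (le_of_preimage_eq_top B hv₂ hWU hyW) hv₂ (le_of_preimage_eq_top B hv₃ hWU hyW)
  rw [key _ _ h4, hrec w v₁ h₁ hv₁ _, hc₁, _root_.mul_one] at h5
  have h6 := hrec 1 v₁ h₁ hv₁ (le_of_preimage_eq_top B (hπ' 1 v₁ hv₁) hWU hyW)
  rw [key _ _ h4', hc₁, _root_.mul_one] at h6
  exact ⟨h5.symm, h6.symm⟩

theorem fibre_rec [IsAffineHom B.π.left] [IsIso (gpt (k := k) (unitT k))]
    {l : Red.Gm (Spec (CommRingCat.of k)) ⟶ G}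
    {y : 𝟙_ (Over (Spec (CommRingCat.of k))) ⟶ X} (hfix : HMNum.IsFixedBy a l y) {U : X.left.Opens}
    {Y : Γ(B.V.left, B.π.left ⁻¹ᵁ U)} (hU : y.left ⁻¹ᵁ U = ⊤) (e : LaurentPolynomial k)
    (form : ∀ (T' : Over (Spec (CommRingCat.of k))) (t : T' ⟶ 𝟙_ _)
      (g : T' ⟶ Red.Gm (Spec (CommRingCat.of k))) (v : T' ⟶ B.V) (hv : v ≫ B.π = t ≫ y)
      (hgv : (lift (g ≫ l) v ≫ B.lift.act) ≫ B.π = t ≫ y),
      HMNum.evalFn B.π Y (lift (g ≫ l) v ≫ B.lift.act) (HMNum.top_le_preimage B.π hU hgv) =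
        (g ≫ inv (gpt (k := k) (unitT k))).left.appTop (fnPt k (LaurentPolynomial k) e) *
          HMNum.evalFn B.π Y v (HMNum.top_le_preimage B.π hU hv))
    {R : Type u} [CommRing R] [Algebra k R] (w : Rˣ) (v : pt k R ⟶ B.V)
    (h : ⊤ ≤ v.left ⁻¹ᵁ (B.π.left ⁻¹ᵁ U)) (hv : v ≫ B.π = toUnit (pt k R) ≫ y)
    (h' : ⊤ ≤ (lift (gpt (k := k) w ≫ l) v ≫ B.lift.act).left ⁻¹ᵁ (B.π.left ⁻¹ᵁ U)) :
    crd B.π Y (lift (gpt (k := k) w ≫ l) v ≫ B.lift.act) h' = evalUnit w e * crd B.π Y v h := by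
  apply (fnPtEquiv k R).injective
  rw [map_mul, fnPtEquiv_apply, fnPtEquiv_apply, fnPtEquiv_apply, fnPt_crd, fnPt_crd, ← appTop_fnPt w e]
  exact form _ (toUnit (pt k R)) (gpt w) v hv (by rw [act_π B.lift_π, hv, hfix _ _ _])

theorem preimage_top_of_point {P Q : Over (Spec (CommRingCat.of k))} [Subsingleton Q.left] (f : P ⟶ Q) (y : Q ⟶ X)
    {W : X.left.Opens} (q : P.left) (hW : (f ≫ y).left ⁻¹ᵁ W = ⊤) : y.left ⁻¹ᵁ W = ⊤ := by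
  refine top_unique fun r _ => ?_
  have hq : q ∈ (f ≫ y).left ⁻¹ᵁ W := by rw [hW]; trivial
  rw [Subsingleton.elim r (f.left q)]
  exact hq

theorem preimage_top_comp {P Q : Over (Spec (CommRingCat.of k))} (f : P ⟶ Q) (y : Q ⟶ X)
    {W : X.left.Opens} (hW : y.left ⁻¹ᵁ W = ⊤) : (f ≫ y).left ⁻¹ᵁ W = ⊤ := by
  rw [show (f ≫ y).left ⁻¹ᵁ W = f.left ⁻¹ᵁ (y.left ⁻¹ᵁ W) from rfl, hW]
  rfl

theorem preimage_top_mono {Q : Over (Spec (CommRingCat.of k))} (y : Q ⟶ X) {W U : X.left.Opens} (h : W ≤ U)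
    (hW : y.left ⁻¹ᵁ W = ⊤) : y.left ⁻¹ᵁ U = ⊤ :=
  top_unique fun r _ => h (show r ∈ y.left ⁻¹ᵁ W by rw [hW]; trivial)

theorem subsingleton_unit : Subsingleton ↥(𝟙_ (Over (Spec (CommRingCat.of k)))).left :=
  inferInstanceAs (Subsingleton (PrimeSpectrum k))

theorem exists_eq_fnPt {R : Type u} [CommRing R] [Algebra k R] (z : Γ((pt k R).left, ⊤)) :
    ∃ e : R, fnPt k R e = z :=
  ⟨(fnPtEquiv k R).symm z, (fnPtEquiv k R).apply_symm_apply z⟩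

/-- The weight on the fibre at a fixed point exists. -/
theorem exists_weight [IsAffineHom B.π.left] {l : Red.Gm (Spec (CommRingCat.of k)) ⟶ G} [IsMonHom l]
    {y : 𝟙_ (Over (Spec (CommRingCat.of k))) ⟶ X} (hfix : HMNum.IsFixedBy a l y) :
    ∃ w : ℤ, HMNum.HasFibreWt a B.π B.atlas.chart B.lift l y w := by
  obtain ⟨U, Y, W, hY, hW, hWU, hpW⟩ := exists_chart_affine B (toUnit (pt k k) ≫ y)
  haveI := subsingleton_unit (k := k)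
  obtain ⟨q⟩ := (nonempty_pt (k := k))
  have hW1 : y.left ⁻¹ᵁ W = ⊤ := preimage_top_of_point _ y q hpW
  have hU : y.left ⁻¹ᵁ U = ⊤ := preimage_top_mono y hWU hW1
  have hyW : ∀ (R : Type u) [CommRing R] [Algebra k R], (toUnit (pt k R) ≫ y).left ⁻¹ᵁ W = ⊤ :=
    fun R _ _ => preimage_top_comp _ y hW1
  haveI := isIso_gpt_unitT k
  obtain ⟨e₀, form⟩ := exists_multiplier hfix hY hU (gpt (k := k) (unitT k))
  obtain ⟨e, he₀⟩ := exists_eq_fnPt e₀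
  rw [← he₀] at form
  have hT := fibre_mul_inv hfix hY hW hWU (hyW (LaurentPolynomial k)) (fun w => evalUnit w e)
    (fun w v h hv h' => fibre_rec hfix hU e form w v h hv h') (unitT k)
  have hK := fibre_mul_inv hfix hY hW hWU (hyW k) (fun w => evalUnit w e)
    (fun w v h hv h' => fibre_rec hfix hU e form w v h hv h') 1
  have hunit : IsUnit e := by
    have h7 := hT.1
    simp only [evalUnit_unitT_self, AlgHom.id_apply] at h7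
    exact IsUnit.of_mul_eq_one _ ((_root_.mul_comm _ _).trans h7)
  obtain ⟨c₀, d, hc₀, hd⟩ := exists_monomial hunit
  have hd1 : c₀ = 1 := by
    have h6 := hK.2
    simp only [hd, one_zpow, Units.val_one, smul_eq_mul, _root_.mul_one] at h6
    exact h6
  have he : e = ((unitT k ^ d : (LaurentPolynomial k)ˣ) : LaurentPolynomial k) := by
    have h6 := hd (R := LaurentPolynomial k) (unitT k)
    rw [evalUnit_unitT_self, hd1, one_smul, AlgHom.id_apply] at h6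
    exact h6
  refine ⟨d, hfix, U, Y, hY, hU, fun T' t g v hv hgv => ?_⟩
  rw [form T' t g v hv hgv, unitOfPt_zpow, he]

/-- The weight read on rational points. -/
theorem weight_pts {l : Red.Gm (Spec (CommRingCat.of k)) ⟶ G} {y : 𝟙_ (Over (Spec (CommRingCat.of k))) ⟶ X} {w : ℤ}
    (hw : HMNum.HasFibreWt a B.π B.atlas.chart B.lift l y w) :
    ∃ (U : X.left.Opens) (Y : Γ(B.V.left, B.π.left ⁻¹ᵁ U)), Y ∈ B.atlas.chart U ∧
      ⊤ ≤ (toUnit (pt k k) ≫ y).left ⁻¹ᵁ U ∧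
      ∀ (v : pt k k ⟶ B.V) (h : ⊤ ≤ v.left ⁻¹ᵁ (B.π.left ⁻¹ᵁ U)), v ≫ B.π = toUnit (pt k k) ≫ y → ∀ z : kˣ,
        (lift (gpt z ≫ l) v ≫ B.lift.act) ≫ B.π = toUnit (pt k k) ≫ y ∧
        ∀ h' : ⊤ ≤ (lift (gpt z ≫ l) v ≫ B.lift.act).left ⁻¹ᵁ (B.π.left ⁻¹ᵁ U),
          crd B.π Y (lift (gpt z ≫ l) v ≫ B.lift.act) h' = (z : k) ^ w * crd B.π Y v h := by
  obtain ⟨hfix, U, Y, hY, hU, H⟩ := hw
  refine ⟨U, Y, hY, ?_, fun v h hv z => ?_⟩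
  · rw [show (toUnit (pt k k) ≫ y).left ⁻¹ᵁ U = (toUnit (pt k k)).left ⁻¹ᵁ (y.left ⁻¹ᵁ U) from rfl, hU]
    exact le_top
  have hgv : (lift (gpt z ≫ l) v ≫ B.lift.act) ≫ B.π = toUnit (pt k k) ≫ y := by
    rw [act_π B.lift_π, hv, hfix _ _ _]
  refine ⟨hgv, fun h' => ?_⟩
  apply (fnPtEquiv k k).injective
  rw [map_mul]
  simp only [crd, AlgEquiv.apply_symm_apply]
  rw [H _ (toUnit (pt k k)) (gpt z) v hv hgv]
  congr 1
  have hu : GmPts.unitOfPt (gpt (k := k) z) = Units.map ((fnPt k k).toRingHom : k →* Fn (pt k k)) z :=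
    Units.ext (unitOfPt_gpt z)
  rw [hu]
  show ((Units.map ((fnPt k k).toRingHom : k →* Fn (pt k k)) z ^ w : (Fn (pt k k))ˣ) : Fn (pt k k)) = fnPt k k ((z : k) ^ w)
  rw [← map_zpow, Units.coe_map, Units.val_zpow_eq_zpow_val]
  rfl

end GrothLib.GitMu15
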