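import Groth.Agent.Lib.GitMu15.Pts
import Groth.Agent.Lib.Repr.GmPts
import Groth.Agent.Lib.TorusUnits.Basic
import Mathlib.FieldTheory.IsAlgClosed.Basic
import Mathlib.Algebra.Group.UniqueProds.Basic

/-!
# The universal point of the multiplicative group and monomials
-/

set_option autoImplicit false
set_option maxHeartbeats 400000
set_option backward.isDefEq.respectTransparency false
set_option backward.isDefEq.respectTransparency.types false

universe u

open CategoryTheory CategoryTheory.Limits MonoidalCategory CartesianMonoidalCategory MonObj AlgebraicGeometry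
open Opposite VecGrp

noncomputable section

namespace GrothLib.GitMu15

open GrothLib.Repr GrothLib.Induce27 GrothLib.MagnetPts Groth.Agent.S11191

attribute [local instance 2000] Algebra.toModule

variable {k : Type u} [Field k] {R R' : Type u} [CommRing R] [Algebra k R] [CommRing R'] [Algebra k R']


theorem exists_gpt (g : pt k R ⟶ Red.Gm (Spec (CommRingCat.of k))) : ∃ w : Rˣ, g = gpt w := by
  obtain ⟨χ, rfl⟩ := (amsPoint ℤ (strK k R)).surjective g
  refine ⟨χ.toHomUnits (Multiplicative.ofAdd 1), congrArg _ (MonoidHom.ext fun n => ?_)⟩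
  obtain ⟨n, rfl⟩ := Multiplicative.ofAdd.surjective n
  rw [zchar_apply, ← map_zpow, ← ofAdd_zsmul]
  simp

theorem gpt_injective : Function.Injective (gpt (k := k) : Rˣ → (pt k R ⟶ Red.Gm (Spec (CommRingCat.of k)))) := by
  intro w w' h
  have := congrArg (fun f => f (Multiplicative.ofAdd (1 : ℤ))) ((amsPoint ℤ (strK k R)).injective h)
  simp only [zchar_apply, zpow_one] at this
  exact Units.ext this

theorem zchar_one : zchar (1 : Rˣ) = 1 := MonoidHom.ext fun n => by simp [zchar]

theorem gpt_one : gpt (k := k) (1 : Rˣ) = toUnit _ ≫ η[Red.Gm (Spec (CommRingCat.of k))] :=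
  (congrArg (amsPoint ℤ (strK k R)) zchar_one).trans (amsPoint_one (strK k R))

theorem evalUnit_T (w : Rˣ) : evalUnit (k := k) w (LaurentPolynomial.T 1) = w := by
  rw [← _root_.one_mul (LaurentPolynomial.T 1 : LaurentPolynomial k), ← map_one LaurentPolynomial.C,
    evalUnit_C_mul_T]
  simp

theorem laurent_algHom_ext {φ ψ : LaurentPolynomial k →ₐ[k] R}
    (h : φ (LaurentPolynomial.T 1) = ψ (LaurentPolynomial.T 1)) : φ = ψ := by
  have hu : Units.map (φ : LaurentPolynomial k →* R) (unitT k) = Units.map (ψ : LaurentPolynomial k →* R) (unitT k) :=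
    Units.ext h
  refine AlgHom.ext fun p => ?_
  induction p using LaurentPolynomial.induction_on' with
  | add p q hp hq => rw [map_add, map_add, hp, hq]
  | C_mul_T n a =>
    let τ : Multiplicative ℤ →* LaurentPolynomial k :=
      { toFun := fun m => LaurentPolynomial.T m.toAdd
        map_one' := LaurentPolynomial.T_zero
        map_mul' := fun a b => LaurentPolynomial.T_add _ _ }
    have hT : (LaurentPolynomial.T n : LaurentPolynomial k) = ((unitT k ^ n : (LaurentPolynomial k)ˣ) : LaurentPolynomial k) := by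
      have h1 : τ.toHomUnits (Multiplicative.ofAdd 1) = unitT k := Units.ext rfl
      rw [← h1, ← map_zpow, ← ofAdd_zsmul]
      simp [τ]
    have hn := congrArg (fun x : Rˣ => ((x ^ n : Rˣ) : R)) hu
    simp only [← map_zpow] at hn
    rw [map_mul, map_mul, hT, LaurentPolynomial.C_eq_algebraMap, AlgHom.commutes, AlgHom.commutes]
    exact congrArg (_ * ·) hn

theorem evalUnit_comp_unitT (w : Rˣ) :
    ptMap (evalUnit (k := k) w) ≫ gpt (unitT k) = gpt w := by
  rw [ptMap_gpt, evalUnit_unitT]

variable (k) in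
/-- The multiplicative group is the spectrum of Laurent polynomials. -/
theorem isIso_gpt_unitT : IsIso (gpt (k := k) (unitT k) : pt k (LaurentPolynomial k) ⟶ Red.Gm (Spec (CommRingCat.of k))) := by
  haveI : IsAffineHom (Red.Gm (Spec (CommRingCat.of k))).hom := by
    haveI : IsAffine (Magnet.AMon (ULift.{u} ℤ) ℤ).left := inferInstanceAs (IsAffine (Spec _))
    haveI : IsAffineHom (Magnet.AMon (ULift.{u} ℤ) ℤ).hom := isAffineHom_of_isAffine _
    exact MorphismProperty.pullback_snd _ _ inferInstance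
  haveI : IsAffine (Red.Gm (Spec (CommRingCat.of k))).left := isAffine_of_isAffineHom (Red.Gm (Spec (CommRingCat.of k))).hom
  obtain ⟨w₀, hw₀⟩ := exists_gpt ((affIso (Red.Gm (Spec (CommRingCat.of k)))).inv)
  refine ⟨(affIso (Red.Gm (Spec (CommRingCat.of k)))).hom ≫ ptMap (evalUnit (k := k) w₀), ?_, ?_⟩
  · obtain ⟨ψ, hψ⟩ := GrothLib.Repr.exists_ptMap
      (gpt (k := k) (unitT k) ≫ (affIso (Red.Gm (Spec (CommRingCat.of k)))).hom ≫ ptMap (evalUnit (k := k) w₀))
    rw [hψ]
    have h1 : ptMap ψ ≫ gpt (unitT k) = gpt (k := k) (unitT k) := by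
      rw [← hψ, Category.assoc, Category.assoc, evalUnit_comp_unitT, ← hw₀, Iso.hom_inv_id, Category.comp_id]
    rw [ptMap_gpt] at h1
    have h2 : ψ = AlgHom.id k _ := laurent_algHom_ext (congrArg Units.val (gpt_injective h1))
    rw [h2, Repr.ptMap_id]
  · rw [Category.assoc, evalUnit_comp_unitT, ← hw₀, Iso.hom_inv_id]

theorem exists_monomial {q : LaurentPolynomial k} (hq : IsUnit q) :
    ∃ (c : k) (d : ℤ), c ≠ 0 ∧ ∀ {R : Type u} [CommRing R] [Algebra k R] (w : Rˣ),
      evalUnit w q = c • ((w ^ d : Rˣ) : R) := by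
  obtain ⟨d, c, hc, rfl⟩ := GrothLib.TorusUnits.exists_single_of_isUnit hq
  refine ⟨c, d, hc.ne_zero, fun {R} _ _ w => ?_⟩
  rw [LaurentPolynomial.single_eq_C_mul_T, evalUnit_C_mul_T]

/-- Powers determine the exponent over an infinite field. -/
theorem zpow_units_injective [Infinite k] {d e : ℤ} (h : ∀ w : kˣ, (w : k) ^ d = (w : k) ^ e) : d = e := by
  classical
  by_contra hne
  obtain ⟨n, hn, hw⟩ : ∃ n : ℕ, n ≠ 0 ∧ ∀ w : kˣ, (w : k) ^ n = 1 := by
    refine ⟨(d - e).natAbs, by omega, fun w => ?_⟩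
    have h1 : (w : k) ^ (d - e) = 1 := by
      rw [zpow_sub₀ w.ne_zero, h w, div_self (zpow_ne_zero _ w.ne_zero)]
    rcases Int.natAbs_eq (d - e) with h2 | h2 <;> rw [h2] at h1
    · exact_mod_cast h1
    · rw [zpow_neg, inv_eq_one] at h1; exact_mod_cast h1
  have hsub : (Set.univ : Set k) ⊆ insert 0 {x | (Polynomial.X ^ n - Polynomial.C (1 : k)).IsRoot x} := by
    intro x _
    by_cases hx : x = 0
    · exact Or.inl hx
    · refine Or.inr ?_
      have h1 : x ^ n = 1 := hw (Units.mk0 x hx)
      simp [h1]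
  exact Set.infinite_univ ((Polynomial.finite_setOf_isRoot
    (Polynomial.X_pow_sub_C_ne_zero (Nat.pos_of_ne_zero hn) 1)).insert 0 |>.subset hsub)

end GrothLib.GitMu15
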