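import Groth.Agent.Lib.MuFun27.Main

/-!
# Limits and equivariant maps from the affine line
-/

set_option autoImplicit false

universe u

open CategoryTheory CategoryTheory.Limits MonoidalCategory CartesianMonoidalCategory AlgebraicGeometry Opposite
open scoped MonObj

noncomputable section

namespace GrothLib.GitMu15

open GrothLib.MuFun27

/-- An extension of the orbit map over the line gives a limit. -/
theorem exists_limit_of_line {S₀ : Scheme.{u}} {G X : Over S₀} [GrpObj G] [IsSeparated X.hom]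
    {a : AlgGrp.Action G X} {l : Red.Gm S₀ ⟶ G} [IsMonHom l] (x : 𝟙_ (Over S₀) ⟶ X) (q : HMNum.A1 S₀ ⟶ X)
    (hq : HMNum.incl S₀ ≫ q = lift l (toUnit _ ≫ x) ≫ a.act) : ∃ y, HMNum.IsLimitPt a l x y := by
  have key : ∀ {T' : Over S₀} (u : T' ⟶ Red.Gm S₀),
      (u ≫ HMNum.incl S₀) ≫ q = lift (u ≫ l) (toUnit T' ≫ x) ≫ a.act := by
    intro T' u
    rw [Category.assoc, hq, ← Category.assoc, comp_lift, ← Category.assoc u (toUnit _) x,
      toUnit_unique (u ≫ toUnit _) (toUnit T')]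
  have main : ((snd (HMNum.A1 S₀) (Red.Gm S₀) ≫ HMNum.incl S₀) * fst _ _) ≫ q =
      lift (snd _ _ ≫ l) (fst _ _ ≫ q) ≫ a.act := by
    refine GrothLib.MagnetSep.ext_map HMNum.plus.subtype Subtype.val_injective _ _ ?_
    apply Magnet.hom_ext_lift₂
    intro T' u g
    have e1 : lift u g ≫ (Magnet.AMonS.map S₀ HMNum.plus.subtype ▷ Red.Gm S₀) =
        lift (u ≫ HMNum.incl S₀) g := lift_whiskerRight _ _ _
    rw [reassoc_of% e1, reassoc_of% e1, ← Category.assoc _ _ q, MonObj.comp_mul, lift_fst,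
      ← Category.assoc (lift _ _) (snd _ _), lift_snd, comp_lift_assoc, ← Category.assoc (lift _ _) (snd _ _),
      lift_snd, ← Category.assoc (lift _ _) (fst _ _), lift_fst, key, ← MonObj.mul_comp, key,
      MonObj.mul_comp _ _ l, lift_act_mul]
  refine ⟨_, ⟨⟨fst _ (𝟙_ _) ≫ q, (Magnet.MonAct.mem_eqvHom_iff _).2 fun T' g b t => ?_⟩, ?_, rfl⟩⟩
  · rw [lift_subAct,
      show ∀ z, lift g z ≫ (HMNum.gmAct a l).act = lift (g ≫ l) z ≫ a.act from
        fun z => Magnet.MonAct.lift_restrict_act l (Magnet.MonAct.ofAction a) g z,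
      lift_fst_assoc, lift_fst_assoc]
    have h := congrArg (fun z => lift b g ≫ z) main
    simpa only [MonObj.comp_mul, comp_lift_assoc, comp_lift, lift_fst_assoc, lift_snd_assoc, ← Category.assoc,
      lift_fst, lift_snd] using h
  · rw [attrToX_eq, lift_fst_assoc]
    have h1 := key (1 : 𝟙_ (Over S₀) ⟶ Red.Gm S₀)
    rw [MonObj.one_comp (HMNum.incl S₀), MonObj.one_comp l, lift_act_one] at h1
    rw [h1, toUnit_unique (toUnit (𝟙_ (Over S₀))) (𝟙 _), Category.id_comp]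

/-- The map of the line attached to a limit. -/
theorem exists_line_of_limit {S₀ : Scheme.{u}} {G X : Over S₀} [GrpObj G]
    {a : AlgGrp.Action G X} {l : Red.Gm S₀ ⟶ G} [IsMonHom l] {x y : 𝟙_ (Over S₀) ⟶ X}
    (h : HMNum.IsLimitPt a l x y) : ∃ q : HMNum.A1 S₀ ⟶ X,
      (∀ {T' : Over S₀} (u : T' ⟶ Red.Gm S₀),
        (u ≫ HMNum.incl S₀) ≫ q = lift (u ≫ l) (toUnit T' ≫ x) ≫ a.act) ∧
      ∀ T' : Over S₀, (toUnit T' ≫ HMNum.origin S₀) ≫ q = toUnit T' ≫ y := by
  obtain ⟨φ, rfl, rfl⟩ := h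
  refine ⟨lift (𝟙 _) (toUnit _) ≫ φ.1, fun {T'} u => ?_, fun T' => ?_⟩
  · rw [comp_lift_assoc, Category.comp_id, toUnit_unique ((u ≫ HMNum.incl S₀) ≫ toUnit _) (toUnit T'), attrToX_eq,
      comp_lift_assoc, Category.comp_id, MonObj.comp_one, ← attr_eq φ u 1 (toUnit T'), _root_.mul_one]
  · rw [comp_lift_assoc, Category.comp_id, HMNum.limitPt_eq, comp_lift_assoc, Category.comp_id]
    congr 2
    all_goals first | exact toUnit_unique _ _ | (rw [← Category.assoc, toUnit_unique (toUnit T' ≫ toUnit _) (toUnit T')])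

end GrothLib.GitMu15
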