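import Groth.Agent.Lib.GitMu15.Gm
import Groth.Agent.Lib.GitMu15.LimitGen
import Groth.Agent.Lib.ProperFib19.DVR
import Groth.Agent.S2344
import Mathlib.RingTheory.DedekindDomain.Dvr

/-!
# Existence of limits in proper schemes, and the family over the affine line
-/

set_option autoImplicit false
set_option maxHeartbeats 800000
set_option backward.isDefEq.respectTransparency false
set_option backward.isDefEq.respectTransparency.types false

universe u

open CategoryTheory CategoryTheory.Limits MonoidalCategory CartesianMonoidalCategory MonObj AlgebraicGeometry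
open Opposite VecGrp Polynomial

noncomputable section

namespace GrothLib.GitMu15

open GrothLib.Repr GrothLib.Induce27 GrothLib.MagnetPts GrothLib.MuFun27 Groth.Agent.S11191

attribute [local instance 2000] Algebra.toModule

variable {k : Type u} [Field k]


theorem ringKrullDim_localization_poly (p : Ideal k[X]) [p.IsMaximal] :
    ringKrullDim (Localization.AtPrime p) = 1 := by
  have hp : p ≠ ⊥ := Ring.ne_bot_of_isMaximal_of_not_isField ‹_› (Polynomial.not_isField k)
  haveI := IsLocalization.AtPrime.isDiscreteValuationRing_of_dedekind_domain k[X] hp (Localization.AtPrime p)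
  exact IsPrincipalIdealRing.ringKrullDim_eq_one (Localization.AtPrime p)
    (IsDiscreteValuationRing.not_isField _)

theorem hcurve_poly (x : ↥(Spec (CommRingCat.of k[X]))) (hx : IsClosed ({x} : Set ↥(Spec (CommRingCat.of k[X])))) :
    ringKrullDim ((Spec (CommRingCat.of k[X])).presheaf.stalk x) = 1 := by
  haveI : (show PrimeSpectrum k[X] from x).asIdeal.IsMaximal :=
    (PrimeSpectrum.isClosed_singleton_iff_isMaximal _).1 hx
  rw [← ringKrullDim_localization_poly (show PrimeSpectrum k[X] from x).asIdeal]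
  exact ringKrullDim_eq_of_ringEquiv (IsLocalization.algEquiv (show PrimeSpectrum k[X] from x).asIdeal.primeCompl
    ((Spec.structureSheaf k[X]).presheaf.stalk x)
    (Localization.AtPrime (show PrimeSpectrum k[X] from x).asIdeal)).toRingEquiv

variable (k) in
/-- The affine line is the spectrum of polynomials. -/
theorem isIso_bpt_X : IsIso (bpt (k := k) (Polynomial.X : k[X]) : pt k k[X] ⟶ HMNum.A1 (Spec (CommRingCat.of k))) := by
  haveI : IsAffineHom (HMNum.A1 (Spec (CommRingCat.of k))).hom := by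
    haveI : IsAffine (Magnet.AMon (ULift.{u} ℤ) ↥HMNum.plus).left := inferInstanceAs (IsAffine (Spec _))
    haveI : IsAffineHom (Magnet.AMon (ULift.{u} ℤ) ↥HMNum.plus).hom := isAffineHom_of_isAffine _
    exact MorphismProperty.pullback_snd _ _ inferInstance
  haveI : IsAffine (HMNum.A1 (Spec (CommRingCat.of k))).left := isAffine_of_isAffineHom (HMNum.A1 (Spec (CommRingCat.of k))).hom
  obtain ⟨b₀, hb₀⟩ := exists_bpt ((affIso (HMNum.A1 (Spec (CommRingCat.of k)))).inv)
  refine ⟨(affIso (HMNum.A1 (Spec (CommRingCat.of k)))).hom ≫ ptMap (Polynomial.aeval b₀), ?_, ?_⟩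
  · obtain ⟨ψ, hψ⟩ := GrothLib.Repr.exists_ptMap
      (bpt (k := k) (Polynomial.X : k[X]) ≫ (affIso (HMNum.A1 (Spec (CommRingCat.of k)))).hom ≫ ptMap (Polynomial.aeval b₀))
    rw [hψ]
    have h1 : ptMap ψ ≫ bpt (Polynomial.X : k[X]) = bpt (k := k) (Polynomial.X : k[X]) := by
      rw [← hψ, Category.assoc, Category.assoc, ptMap_bpt, Polynomial.aeval_X, ← hb₀, Iso.hom_inv_id,
        Category.comp_id]
    rw [ptMap_bpt] at h1
    have h2 : ψ = AlgHom.id k _ := Polynomial.algHom_ext (bpt_injective h1)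
    rw [h2, Repr.ptMap_id]
  · rw [Category.assoc, ptMap_bpt, Polynomial.aeval_X, ← hb₀, Iso.hom_inv_id]

variable {G X : Over (Spec (CommRingCat.of k))} [GrpObj G] {a : AlgGrp.Action G X} {l : Red.Gm (Spec (CommRingCat.of k)) ⟶ G} [IsMonHom l]

/-- The orbit map extends to the affine line. -/
theorem exists_line [IsProper X.hom] (x : 𝟙_ (Over (Spec (CommRingCat.of k))) ⟶ X) :
    ∃ q : HMNum.A1 (Spec (CommRingCat.of k)) ⟶ X, HMNum.incl (Spec (CommRingCat.of k)) ≫ q = lift l (toUnit _ ≫ x) ≫ a.act := by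
  haveI := isIso_gpt_unitT k
  haveI := isIso_bpt_X k
  let A : Scheme.{u} := Spec (CommRingCat.of k[X])
  letI : A.Over (Spec (CommRingCat.of k)) := ⟨(pt k k[X]).hom⟩
  letI : X.left.Over (Spec (CommRingCat.of k)) := ⟨X.hom⟩
  haveI : IsProper (X.left ↘ (Spec (CommRingCat.of k))) := ‹IsProper X.hom›
  haveI : LocallyOfFiniteType (A ↘ (Spec (CommRingCat.of k))) := by
    show LocallyOfFiniteType (Spec.map (CommRingCat.ofHom (algebraMap k k[X])))
    rw [HasRingHomProperty.Spec_iff (P := @LocallyOfFiniteType)]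
    exact RingHom.finiteType_algebraMap.2 inferInstance
  haveI : QuasiCompact (A ↘ (Spec (CommRingCat.of k))) := inferInstanceAs (QuasiCompact (Spec.map _))
  haveI : IsSeparated (A ↘ (Spec (CommRingCat.of k))) := inferInstanceAs (IsSeparated (Spec.map _))
  haveI : Nonempty A := inferInstanceAs (Nonempty (PrimeSpectrum k[X]))
  let τ : k[X] →ₐ[k] LaurentPolynomial k := Polynomial.toLaurentAlg
  let j : pt k (LaurentPolynomial k) ⟶ pt k k[X] := ptMap τ
  haveI : IsOpenImmersion j.left := by
    haveI : IsOpenImmersion (Spec.map (CommRingCat.ofHom (algebraMap k[X] (LaurentPolynomial k)))) :=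
      IsOpenImmersion.of_isLocalization (Polynomial.X : k[X])
    show IsOpenImmersion (Spec.map (CommRingCat.ofHom τ.toRingHom))
    rw [show τ.toRingHom = algebraMap k[X] (LaurentPolynomial k) from RingHom.ext fun _ => rfl]
    exact this
  let o : pt k (LaurentPolynomial k) ⟶ X := lift (gpt (unitT k) ≫ l) (toUnit _ ≫ x) ≫ a.act
  let U : A.Opens := j.left.opensRange
  haveI : IrreducibleSpace A := inferInstanceAs (IrreducibleSpace (PrimeSpectrum k[X]))
  have hU : Dense (U : Set A) := by
    refine U.2.dense ?_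
    haveI : Nonempty ↥(pt k (LaurentPolynomial k)).left :=
      inferInstanceAs (Nonempty (PrimeSpectrum (LaurentPolynomial k)))
    obtain ⟨p⟩ := ‹Nonempty ↥(pt k (LaurentPolynomial k)).left›
    exact ⟨_, p, rfl⟩
  obtain ⟨g', ⟨hg₁, hg₂⟩, -⟩ := Groth.Agent.S2344.result k A X.left hcurve_poly
    (GrothLib.ProperFib19.isNormalScheme_spec k[X]) U hU (j.left.isoOpensRange.inv ≫ o.left) (by
      show (j.left.isoOpensRange.inv ≫ o.left) ≫ X.hom = U.ι ≫ (pt k k[X]).hom
      rw [Category.assoc, Over.w o, Iso.inv_comp_eq, ← Category.assoc, Scheme.Hom.isoOpensRange_hom_ι, Over.w j])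
  let P : pt k k[X] ⟶ X := Over.homMk g' hg₂
  have hjP : j ≫ P = o := by
    refine Over.OverMorphism.ext ?_
    show j.left ≫ g' = o.left
    rw [← Scheme.Hom.isoOpensRange_hom_ι j.left, Category.assoc, hg₁, Iso.hom_inv_id_assoc]
  refine ⟨inv (bpt (k := k) (Polynomial.X : k[X])) ≫ P, ?_⟩
  rw [← cancel_epi (gpt (k := k) (unitT k))]
  have e : gpt (k := k) (unitT k) ≫ HMNum.incl (Spec (CommRingCat.of k)) = j ≫ bpt (Polynomial.X : k[X]) := by
    rw [gpt_incl, ptMap_bpt]
    congr 1
    exact Polynomial.toLaurent_X.symm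
  rw [reassoc_of% e, IsIso.hom_inv_id_assoc, hjP, ← Category.assoc (gpt (k := k) (unitT k)), comp_lift,
    ← Category.assoc (gpt (k := k) (unitT k)) (toUnit _) x,
    toUnit_unique (gpt (k := k) (unitT k) ≫ toUnit _) (toUnit _)]

/-- Limits exist in proper schemes. -/
theorem exists_limit [IsProper X.hom] (x : 𝟙_ (Over (Spec (CommRingCat.of k))) ⟶ X) : ∃ y, HMNum.IsLimitPt a l x y := by
  obtain ⟨q, hq⟩ := exists_line (a := a) (l := l) x
  exact exists_limit_of_line x q hq

/-- The family over the line attached to a limit: equivariance and its value at zero. -/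
theorem exists_family [Infinite k] {x y : 𝟙_ (Over (Spec (CommRingCat.of k))) ⟶ X} (h : HMNum.IsLimitPt a l x y) :
    ∃ P : pt k k[X] ⟶ X, (ptMap (Polynomial.aeval (0 : k)) ≫ P = toUnit (pt k k) ≫ y) ∧
      ∀ w : kˣ, ptMap (Polynomial.aeval (w : k)) ≫ P = lift (gpt (k := k) w ≫ l) (toUnit (pt k k) ≫ x) ≫ a.act := by
  obtain ⟨q, hq1, hq0⟩ := exists_line_of_limit h
  refine ⟨bpt (Polynomial.X : k[X]) ≫ q, ?_, fun w => ?_⟩
  · obtain ⟨b, hb⟩ := exists_bpt (toUnit (pt k k) ≫ HMNum.origin (Spec (CommRingCat.of k)))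
    obtain ⟨w, hw⟩ : ∃ w : kˣ, (w : k) ≠ 1 := by
      classical
      obtain ⟨c, hc⟩ := Infinite.exists_notMem_finset ({0, 1} : Finset k)
      simp only [Finset.mem_insert, Finset.mem_singleton, not_or] at hc
      exact ⟨Units.mk0 c hc.1, hc.2⟩
    have hfix := mul_origin (gpt (k := k) w)
    rw [hb, gpt_incl, ← bpt_mul] at hfix
    have hb0 : b = 0 := by
      have h1 := bpt_injective hfix
      by_contra hne
      exact hw ((mul_eq_right₀ hne).1 h1)
    rw [hb0] at hb
    rw [← Category.assoc, ptMap_bpt, Polynomial.aeval_X, ← hb, hq0]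
  · rw [← Category.assoc, ptMap_bpt, Polynomial.aeval_X, ← gpt_incl, hq1]

end GrothLib.GitMu15
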