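import Groth.Agent.Lib.GitMu15.Eig
import Groth.Agent.Lib.GitMu15.Limit

/-!
# The numerical function on a torus is the maximum of finitely many functionals
-/

set_option autoImplicit false
set_option maxHeartbeats 800000
set_option backward.isDefEq.respectTransparency false
set_option backward.isDefEq.respectTransparency.types false

universe u

open CategoryTheory CategoryTheory.Limits MonoidalCategory CartesianMonoidalCategory MonObj AlgebraicGeometry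
open Opposite VecGrp

noncomputable section

namespace GrothLib.GitMu15

open GrothLib.Repr GrothLib.Induce27 GrothLib.MagnetPts Groth.Agent.S11191
open Polynomial (aeval)

attribute [local instance 2000] Algebra.toModule

variable {k : Type u} [Field k] [IsAlgClosed k] {T G X : Over (Spec (CommRingCat.of k))} [GrpObj T] [GrpObj G]
  {a : AlgGrp.Action G X} {B : GLinSh.LinBun G a} {i : T ⟶ G}

/-- An affine open of a chart containing a rational point. -/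
theorem exists_affine_nhd (p : pt k k ⟶ X) {U : X.left.Opens} (hU : ⊤ ≤ p.left ⁻¹ᵁ U) :
    ∃ W : X.left.Opens, IsAffineOpen W ∧ W ≤ U ∧ p.left ⁻¹ᵁ W = ⊤ := by
  obtain ⟨q⟩ := (nonempty_pt (k := k))
  obtain ⟨_, ⟨W, hW, rfl⟩, hqW, hWU⟩ :=
    X.left.isBasis_affineOpens.exists_subset_of_mem_open (show p.left q ∈ U from hU (Set.mem_univ q)) U.2
  exact ⟨W, hW, hWU, preimage_eq_top p hqW⟩

/-- A weight vector not vanishing over the limit computes the weight. -/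
theorem weight_eq {n : ℕ} {e : Fn B.V} {χ : (pt k k ⟶ T) → k} (he : Homog B n e) (hχ : IsEig i e χ)
    [IsAffineHom B.π.left] {l : Red.Gm (Spec (CommRingCat.of k)) ⟶ T}
    {y : 𝟙_ (Over (Spec (CommRingCat.of k))) ⟶ X} {w : ℤ}
    (hw : HMNum.HasFibreWt a B.π B.atlas.chart B.lift (l ≫ i) y w) (hy : NV B e (toUnit (pt k k) ≫ y))
    {d : ℤ} (hd : ∀ z : kˣ, χ (gpt z ≫ l) = (z : k) ^ d) : d = n * w := by
  haveI : Infinite k := IsAlgClosed.instInfinite (K := k)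
  obtain ⟨U, Y, hY, hU, H⟩ := weight_pts hw
  obtain ⟨W, hW, hWU, hpW⟩ := exists_affine_nhd (toUnit (pt k k) ≫ y) hU
  obtain ⟨v₁, h₁, hv₁, hone⟩ := exists_over (B.atlas.coord U Y hY) hW hWU (toUnit (pt k k) ≫ y) hpW (1 : k)
  have hne := he.ne_zero_of_nv hy hY h₁ hv₁ hone
  refine zpow_units_injective (k := k) fun z => ?_
  obtain ⟨hπ, hc⟩ := H v₁ h₁ hv₁ z
  have h' := le_of_preimage_eq_top B hπ hWU hpW
  have e1 := he.eq_scale hY h' h₁ (hπ.trans hv₁.symm) hone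
  rw [hc h', hone, _root_.mul_one] at e1
  rw [← Category.assoc (gpt (k := k) z) l i] at e1
  rw [hχ (gpt z ≫ l) v₁, hd] at e1
  have e2 : (z : k) ^ d = ((z : k) ^ w) ^ n := mul_right_cancel₀ hne (by rw [e1]; ring)
  rw [e2, ← zpow_natCast ((z : k) ^ w) n, ← zpow_mul, _root_.mul_comm w]

/-- Points of the family near zero, with their fibre coordinate. -/
theorem exists_section_family [IsAffineHom B.π.left] {l : Red.Gm (Spec (CommRingCat.of k)) ⟶ G} [IsMonHom l]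
    {x y : 𝟙_ (Over (Spec (CommRingCat.of k))) ⟶ X} (h : HMNum.IsLimitPt a l x y) :
    ∃ (q : Polynomial k) (U : X.left.Opens) (Y : Γ(B.V.left, B.π.left ⁻¹ᵁ U))
      (R : Type u) (_ : CommRing R) (_ : Algebra k R) (v : pt k R ⟶ B.V), q.eval 0 ≠ 0 ∧ Y ∈ B.atlas.chart U ∧
      ∃ ev : ∀ b : k, q.eval b ≠ 0 → (R →ₐ[k] k),
        (∀ ē : R, ∃ (p : Polynomial k) (N : ℕ), ∀ (b : k) (hb : q.eval b ≠ 0), ev b hb ē * q.eval b ^ N = p.eval b) ∧
        (∀ (hb : q.eval 0 ≠ 0), (ptMap (ev 0 hb) ≫ v) ≫ B.π = toUnit (pt k k) ≫ y ∧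
          ∃ h', crd B.π Y (ptMap (ev 0 hb) ≫ v) h' = 1) ∧
        ∀ (b : kˣ) (hb : q.eval (b : k) ≠ 0),
          (lift (gpt b⁻¹ ≫ l) (ptMap (ev b hb) ≫ v) ≫ B.lift.act) ≫ B.π = toUnit (pt k k) ≫ x := by
  haveI : Infinite k := IsAlgClosed.instInfinite (K := k)
  obtain ⟨P, hP0, hPw⟩ := exists_family h
  obtain ⟨U, Y, W, hY, hW, hWU, hpW⟩ := exists_chart_affine B (toUnit (pt k k) ≫ y)
  obtain ⟨r⟩ := (nonempty_pt (k := k))
  have hr : (ptMap (aeval (0 : k))).left r ∈ P.left ⁻¹ᵁ W := by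
    show r ∈ (ptMap (aeval (0 : k)) ≫ P).left ⁻¹ᵁ W
    rw [hP0, hpW]; trivial
  obtain ⟨_, ⟨q, rfl⟩, hq0, hqW⟩ :=
    PrimeSpectrum.isTopologicalBasis_basic_opens.exists_subset_of_mem_open hr (P.left ⁻¹ᵁ W).2
  have hq0' : q.eval 0 ≠ 0 := by
    intro hz
    refine hq0 ?_
    show aeval (0 : k) q ∈ (show PrimeSpectrum k from r).asIdeal
    rw [Polynomial.coe_aeval_eq_eval, hz]
    exact zero_mem _
  let R := Localization.Away q
  let ρ : Polynomial k →ₐ[k] R := IsScalarTower.toAlgHom k (Polynomial k) R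
  have hρW : (ptMap ρ ≫ P).left ⁻¹ᵁ W = ⊤ := by
    refine top_unique fun z _ => ?_
    refine hqW ?_
    have hz : (PrimeSpectrum.comap (algebraMap (Polynomial k) R) z) ∈
        Set.range (PrimeSpectrum.comap (algebraMap (Polynomial k) R)) := ⟨z, rfl⟩
    rwa [PrimeSpectrum.localization_away_comap_range R q] at hz
  obtain ⟨v, hv, hvπ, hone⟩ := exists_over (B.atlas.coord U Y hY) hW hWU (ptMap ρ ≫ P) hρW (1 : R)
  let ev : ∀ b : k, q.eval b ≠ 0 → (R →ₐ[k] k) := fun b hb =>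
    IsLocalization.liftAlgHom (M := Submonoid.powers q) (f := aeval b) (by
      rintro ⟨_, m, rfl⟩
      rw [map_pow, Polynomial.coe_aeval_eq_eval]
      exact (isUnit_iff_ne_zero.2 hb).pow m)
  have hevρ : ∀ b hb, (ev b hb).comp ρ = aeval b := fun b hb =>
    AlgHom.ext fun p => by simp [ev, ρ]
  have hπb : ∀ b hb, (ptMap (ev b hb) ≫ v) ≫ B.π = ptMap (aeval b) ≫ P := by
    intro b hb
    rw [Category.assoc, hvπ, ← Category.assoc, ← Repr.ptMap_comp, hevρ b hb]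
  refine ⟨q, U, Y, R, inferInstance, inferInstance, v, hq0', hY, ev, fun ē => ?_, fun hb => ⟨?_, ?_⟩, fun b hb => ?_⟩
  · obtain ⟨p, s, rfl⟩ := IsLocalization.exists_mk'_eq (Submonoid.powers q) ē
    obtain ⟨N, hN⟩ := s.2
    refine ⟨p, N, fun b hb => ?_⟩
    have h1 := congrArg (ev b hb) (IsLocalization.mk'_spec R p s)
    rw [map_mul] at h1
    have h2 : ∀ z : Polynomial k, ev b hb (algebraMap (Polynomial k) R z) = z.eval b := fun z => by
      have := AlgHom.congr_fun (hevρ b hb) z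
      rwa [Polynomial.coe_aeval_eq_eval] at this
    rw [h2, h2, ← hN] at h1
    simpa [Polynomial.eval_pow] using h1
  · rw [hπb 0 hb, hP0]
  · have h' : ⊤ ≤ (ptMap (ev 0 hb) ≫ v).left ⁻¹ᵁ (B.π.left ⁻¹ᵁ U) :=
      le_of_preimage_eq_top B ((hπb 0 hb).trans hP0) hWU hpW
    exact ⟨h', by rw [crd_comp B.π (ev 0 hb) Y v hv h', hone, map_one]⟩
  · rw [GrothLib.MuFun27.act_π B.lift_π, hπb (b : k) hb, hPw, ← GrothLib.MuFun27.lift_act_mul, ← MonObj.mul_comp,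
      ← gpt_mul, inv_mul_cancel, gpt_one, Category.assoc, IsMonHom.one_hom, ← Hom.one_def,
      GrothLib.MuFun27.lift_act_one]

theorem infinite_good (q : Polynomial k) (hq : q.eval 0 ≠ 0) :
    {b : k | b ≠ 0 ∧ q.eval b ≠ 0}.Infinite := by
  haveI : Infinite k := IsAlgClosed.instInfinite (K := k)
  have hq' : q ≠ 0 := fun h => hq (by rw [h, Polynomial.eval_zero])
  have hfin : ({b : k | b ≠ 0 ∧ q.eval b ≠ 0}ᶜ).Finite := by
    refine ((Polynomial.finite_setOf_isRoot hq').insert 0).subset fun b hb => ?_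
    simp only [Set.mem_compl_iff, Set.mem_setOf_eq, not_and_or, not_not] at hb
    rcases hb with hb | hb
    · exact Or.inl hb
    · exact Or.inr hb
  exact hfin.infinite_compl.mono (by rw [compl_compl])

theorem poly_eq_of_good {q p p' : Polynomial k} (hq : q.eval 0 ≠ 0)
    (h : ∀ b : kˣ, q.eval (b : k) ≠ 0 → p.eval (b : k) = p'.eval (b : k)) : p = p' :=
  Polynomial.eq_of_infinite_eval_eq p p' ((infinite_good q hq).mono fun _ hb => h (Units.mk0 _ hb.1) hb.2)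

/-- The comparison of weight vectors along the family of a limit. -/
theorem core [IsAffineHom B.π.left] [IsMonHom i] {l : Red.Gm (Spec (CommRingCat.of k)) ⟶ T} [IsMonHom l]
    {x y : 𝟙_ (Over (Spec (CommRingCat.of k))) ⟶ X} (h : HMNum.IsLimitPt a (l ≫ i) x y) {w : ℤ}
    {n₀ : ℕ} {g : Fn B.V} {χ₀ : (pt k k ⟶ T) → k} (hn₀ : 1 ≤ n₀) (hg : Homog B n₀ g) (hχ₀ : IsEig i g χ₀)
    (hgy : NV B g (toUnit (pt k k) ≫ y)) (hd₀ : ∀ z : kˣ, χ₀ (gpt z ≫ l) = (z : k) ^ ((n₀ : ℤ) * w)) :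
    NV B g (toUnit (pt k k) ≫ x) ∧
      ∀ (n : ℕ) (e : Fn B.V) (χ : (pt k k ⟶ T) → k) (d : ℤ), Homog B n e → IsEig i e χ →
        (∀ z : kˣ, χ (gpt z ≫ l) = (z : k) ^ d) → NV B e (toUnit (pt k k) ≫ x) → (n : ℤ) * w ≤ d := by
  classical
  obtain ⟨q, U, Y, R, _, _, v, hq, hY, ev, hfrac, h0, hb⟩ := exists_section_family (B := B) h
  obtain ⟨hπ0, h0', hone0⟩ := h0 hq
  obtain ⟨pg, Ng, hpg⟩ := hfrac (valAt v g)
  have hg0 : valAt (ptMap (ev 0 hq) ≫ v) g ≠ 0 := hg.ne_zero_of_nv hgy hY h0' hπ0 hone0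
  rw [valAt_ptMap_comp] at hg0
  have hpg0 : pg.eval 0 ≠ 0 := by
    rw [← hpg 0 hq]
    exact mul_ne_zero hg0 (pow_ne_zero _ hq)
  have htr : ∀ (e : Fn B.V) (χ : (pt k k ⟶ T) → k) (d : ℤ), IsEig i e χ →
      (∀ z : kˣ, χ (gpt z ≫ l) = (z : k) ^ d) → ∀ (b : kˣ) (hqb : q.eval (b : k) ≠ 0),
      valAt (lift (gpt b⁻¹ ≫ l ≫ i) (ptMap (ev b hqb) ≫ v) ≫ B.lift.act) e =
        ((b : k) ^ d)⁻¹ * ev b hqb (valAt v e) := by
    intro e χ d hχ hd b hqb
    rw [← Category.assoc (gpt (k := k) b⁻¹) l i, hχ, hd, valAt_ptMap_comp, Units.val_inv_eq_inv_val, inv_zpow]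
  have hnvx : NV B g (toUnit (pt k k) ≫ x) := by
    by_contra hno
    refine hpg0 ?_
    have hp : pg = 0 := poly_eq_of_good hq fun b hqb => by
      have hz : valAt (lift (gpt b⁻¹ ≫ l ≫ i) (ptMap (ev b hqb) ≫ v) ≫ B.lift.act) g = 0 := by
        by_contra hne
        exact hno ⟨_, hb b hqb, hne⟩
      rw [htr g χ₀ _ hχ₀ hd₀ b hqb, mul_eq_zero] at hz
      rcases hz with hz | hz
      · exact absurd hz (inv_ne_zero (zpow_ne_zero _ b.ne_zero))
      · rw [← hpg b hqb, hz, zero_mul, Polynomial.eval_zero]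
    rw [hp, Polynomial.eval_zero]
  refine ⟨hnvx, fun n e χ d he hχ hd hex => ?_⟩
  by_contra hlt
  push Not at hlt
  obtain ⟨M, hM⟩ : ∃ M : ℕ, (n : ℤ) * w - d = (M + 1 : ℕ) :=
    ⟨((n : ℤ) * w - d - 1).toNat, by push_cast; omega⟩
  obtain ⟨pe, Ne, hpe⟩ := hfrac (valAt v e)
  obtain ⟨U', Y', W', hY', hW', hWU', hxW'⟩ := exists_chart_affine B (toUnit (pt k k) ≫ x)
  obtain ⟨v₁, h₁, hv₁, hone⟩ := exists_over (B.atlas.coord U' Y' hY') hW' hWU' (toUnit (pt k k) ≫ x) hxW' (1 : k)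
  have hα := he.ne_zero_of_nv hex hY' h₁ hv₁ hone
  set α := valAt v₁ e with hαd
  set β := valAt v₁ g with hβd
  have hid : ∀ (b : kˣ) (hqb : q.eval (b : k) ≠ 0),
      ev b hqb (valAt v e) ^ n₀ * β ^ n * (b : k) ^ (n₀ * (M + 1)) = α ^ n₀ * ev b hqb (valAt v g) ^ n := by
    intro b hqb
    set vb := lift (gpt b⁻¹ ≫ l ≫ i) (ptMap (ev b hqb) ≫ v) ≫ B.lift.act with hvb
    have h' := le_of_preimage_eq_top B (hb b hqb) hWU' hxW'
    have e1 := he.eq_scale hY' h' h₁ ((hb b hqb).trans hv₁.symm) hone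
    have g1 := hg.eq_scale hY' h' h₁ ((hb b hqb).trans hv₁.symm) hone
    rw [htr e χ d hχ hd b hqb, ← hαd] at e1
    rw [htr g χ₀ _ hχ₀ hd₀ b hqb, ← hβd] at g1
    set z := crd B.π Y' vb h'
    set E := ev b hqb (valAt v e)
    set F := ev b hqb (valAt v g)
    have hb0 : (b : k) ≠ 0 := b.ne_zero
    have e2 : E = (b : k) ^ d * (α * z ^ n) := by
      rw [← e1, ← _root_.mul_assoc, mul_inv_cancel₀ (zpow_ne_zero _ hb0), _root_.one_mul]
    have g2 : F = (b : k) ^ ((n₀ : ℤ) * w) * (β * z ^ n₀) := by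
      rw [← g1, ← _root_.mul_assoc, mul_inv_cancel₀ (zpow_ne_zero _ hb0), _root_.one_mul]
    have hexp : ((b : k) ^ d) ^ n₀ * (b : k) ^ (n₀ * (M + 1)) = ((b : k) ^ ((n₀ : ℤ) * w)) ^ n := by
      rw [← zpow_natCast ((b : k) ^ d) n₀, ← zpow_natCast (b : k) (n₀ * (M + 1)),
        ← zpow_natCast ((b : k) ^ ((n₀ : ℤ) * w)) n, ← zpow_mul, ← zpow_mul, ← zpow_add₀ hb0]
      congr 1
      rw [Nat.cast_mul, ← hM]
      ring
    rw [e2, g2]
    calc ((b : k) ^ d * (α * z ^ n)) ^ n₀ * β ^ n * (b : k) ^ (n₀ * (M + 1))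
        = (((b : k) ^ d) ^ n₀ * (b : k) ^ (n₀ * (M + 1))) * (α ^ n₀ * β ^ n * (z ^ n) ^ n₀) := by ring
      _ = ((b : k) ^ ((n₀ : ℤ) * w)) ^ n * (α ^ n₀ * β ^ n * (z ^ n) ^ n₀) := by rw [hexp]
      _ = α ^ n₀ * ((b : k) ^ ((n₀ : ℤ) * w) * (β * z ^ n₀)) ^ n := by ring
  have hpoly : pe ^ n₀ * Polynomial.C (β ^ n) * Polynomial.X ^ (n₀ * (M + 1)) * q ^ (Ng * n) =
      Polynomial.C (α ^ n₀) * pg ^ n * q ^ (Ne * n₀) := poly_eq_of_good hq fun b hqb => by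
    simp only [Polynomial.eval_mul, Polynomial.eval_pow, Polynomial.eval_C, Polynomial.eval_X,
      ← hpe b hqb, ← hpg b hqb]
    linear_combination ((q.eval (b : k)) ^ (Ne * n₀) * (q.eval (b : k)) ^ (Ng * n)) * hid b hqb
  have hz := congrArg (Polynomial.eval 0) hpoly
  simp only [Polynomial.eval_mul, Polynomial.eval_pow, Polynomial.eval_C, Polynomial.eval_X] at hz
  rw [zero_pow (Nat.mul_ne_zero (by omega) (Nat.succ_ne_zero M)), mul_zero, zero_mul] at hz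
  exact mul_ne_zero (mul_ne_zero (pow_ne_zero _ hα) (pow_ne_zero _ hpg0)) (pow_ne_zero _ hq) hz.symm

/-- The exponent of a character along a one-parameter subgroup. -/
def deg (χ : (pt k k ⟶ T) → k) (l : Red.Gm (Spec (CommRingCat.of k)) ⟶ T) : ℤ :=
  haveI := Classical.propDecidable (∃ d : ℤ, ∀ z : kˣ, χ (gpt z ≫ l) = (z : k) ^ d)
  if h : ∃ d : ℤ, ∀ z : kˣ, χ (gpt z ≫ l) = (z : k) ^ d then h.choose else 0

theorem deg_spec {χ : (pt k k ⟶ T) → k} (hχ : IsChar χ) (l : Red.Gm (Spec (CommRingCat.of k)) ⟶ T) [IsMonHom l]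
    (z : kˣ) : χ (gpt z ≫ l) = (z : k) ^ deg χ l := by
  have h := hχ l inferInstance
  rw [deg, dif_pos h]
  exact h.choose_spec z

theorem deg_mul {χ : (pt k k ⟶ T) →* k} (hχ : IsChar (χ : (pt k k ⟶ T) → k))
    (l₁ l₂ : Red.Gm (Spec (CommRingCat.of k)) ⟶ T) [IsMonHom l₁] [IsMonHom l₂] :
    deg (χ : (pt k k ⟶ T) → k) (l₁ * l₂) = deg (χ : (pt k k ⟶ T) → k) l₁ + deg (χ : (pt k k ⟶ T) → k) l₂ := by
  haveI : Infinite k := IsAlgClosed.instInfinite (K := k)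
  have key : ∀ z : kˣ, χ (gpt z ≫ (l₁ * l₂)) =
      (z : k) ^ (deg (χ : (pt k k ⟶ T) → k) l₁ + deg (χ : (pt k k ⟶ T) → k) l₂) := fun z => by
    rw [MonObj.comp_mul, map_mul, deg_spec hχ l₁ z, deg_spec hχ l₂ z, zpow_add₀ z.ne_zero]
  have h : ∃ d : ℤ, ∀ z : kˣ, χ (gpt z ≫ (l₁ * l₂)) = (z : k) ^ d := ⟨_, key⟩
  refine zpow_units_injective (k := k) fun z => ?_
  rw [← key, deg, dif_pos h]
  exact (h.choose_spec z).symm

/-- Finitely many weight vectors without common zero. -/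
theorem exists_family_eig [IsProper X.hom] [IsMonHom i] (hT : Red.IsTorus T) (hB : HMNum.AmpleCover B) :
    ∃ (N : ℕ) (n : Fin N → ℕ) (e : Fin N → Fn B.V) (χ : Fin N → ((pt k k ⟶ T) →* k)),
      (∀ j, 1 ≤ n j ∧ IsChar (χ j : (pt k k ⟶ T) → k) ∧ IsEig i (e j) (χ j : (pt k k ⟶ T) → k) ∧
        Homog B (n j) (e j)) ∧
      ∀ p : pt k k ⟶ X, ∃ j, NV B (e j) p := by
  classical
  haveI := B.atlas.affine
  haveI : QuasiCompact B.V.hom := by rw [← Over.w B.π]; infer_instance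
  haveI : QuasiSeparated B.V.hom := by rw [← Over.w B.π]; infer_instance
  haveI := hB.1
  choose n f hn hf hmem U hU hUa using hB.2
  obtain ⟨s, hs⟩ := isCompact_univ.elim_finite_subcover (fun x : X.left => (U x : Set X.left)) (fun x => (U x).2)
    (fun x _ => Set.mem_iUnion.2 ⟨x, by rw [hU]; exact hmem x⟩)
  choose J b hJ hsum using fun x : X.left => exists_decomp hT i (homog_of_hasWeight (hf x))
  let ι₀ := Σ x : s, (J x.1 : Finset _)
  let eqv := Fintype.equivFin ι₀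
  refine ⟨Fintype.card ι₀, fun j => n (eqv.symm j).1, fun j => b (eqv.symm j).1 (eqv.symm j).2,
    fun j => (eqv.symm j).2.1, fun j => ⟨hn _, hJ _ _ (eqv.symm j).2.2⟩, fun p => ?_⟩
  obtain ⟨r⟩ := (nonempty_pt (k := k))
  obtain ⟨x, hx, hpx⟩ := Set.mem_iUnion₂.1 (hs (Set.mem_univ (p.left r)))
  rw [hU] at hpx
  obtain ⟨v, hv, hne⟩ := nv_of_mem_nonvanishing (hf x) p r hpx
  rw [hsum x v] at hne
  obtain ⟨ξ, hξ, hξne⟩ := Finset.exists_ne_zero_of_sum_ne_zero hne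
  refine ⟨eqv ⟨⟨x, hx⟩, ⟨ξ, hξ⟩⟩, v, hv, ?_⟩
  show valAt v (b (eqv.symm (eqv ⟨⟨x, hx⟩, ⟨ξ, hξ⟩⟩)).1 (eqv.symm (eqv ⟨⟨x, hx⟩, ⟨ξ, hξ⟩⟩)).2) ≠ 0
  rw [Equiv.symm_apply_apply]
  exact hξne

/-- The numerical function on a torus is the maximum of finitely many functionals. -/
theorem exists_functionals [IsProper X.hom] [IsMonHom i] (hT : Red.IsTorus T) (hB : HMNum.AmpleCover B) :
    ∃ (n : ℕ) (ℓ : Fin n → (Red.Gm (Spec (CommRingCat.of k)) ⟶ T) → ℚ),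
      (∀ (j : Fin n) (l₁ l₂ : Red.Gm (Spec (CommRingCat.of k)) ⟶ T) [IsMonHom l₁] [IsMonHom l₂],
          ℓ j (l₁ * l₂) = ℓ j l₁ + ℓ j l₂) ∧
      ∀ (x : 𝟙_ (Over (Spec (CommRingCat.of k))) ⟶ X), ∃ I : Finset (Fin n),
        ∀ (l : Red.Gm (Spec (CommRingCat.of k)) ⟶ T) [IsMonHom l] (m : ℤ),
          HMNum.IsMu B (l ≫ i) x m ↔ ∃ j ∈ I, (m : ℚ) = ℓ j l ∧ ∀ j' ∈ I, ℓ j' l ≤ ℓ j l := by
  classical
  haveI := B.atlas.affine
  obtain ⟨N, n, e, χ, hprop, hcov⟩ := exists_family_eig (i := i) hT hB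
  refine ⟨N, fun j l => -((deg (χ j : (pt k k ⟶ T) → k) l : ℤ) : ℚ) / (n j : ℚ), fun j l₁ l₂ _ _ => ?_, fun x => ?_⟩
  · show -((deg _ (l₁ * l₂) : ℤ) : ℚ) / _ = _
    rw [deg_mul (hprop j).2.1 l₁ l₂]
    push_cast
    ring
  refine ⟨Finset.univ.filter fun j => NV B (e j) (toUnit (pt k k) ≫ x), fun l _ m => ?_⟩
  have val : ∀ {y : 𝟙_ (Over (Spec (CommRingCat.of k))) ⟶ X} {w : ℤ}, HMNum.IsLimitPt a (l ≫ i) x y →
      HMNum.HasFibreWt a B.π B.atlas.chart B.lift (l ≫ i) y w →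
      ∃ j, NV B (e j) (toUnit (pt k k) ≫ x) ∧
        (-(w : ℚ)) = -((deg (χ j : (pt k k ⟶ T) → k) l : ℤ) : ℚ) / (n j : ℚ) ∧
        ∀ j', NV B (e j') (toUnit (pt k k) ≫ x) →
          -((deg (χ j' : (pt k k ⟶ T) → k) l : ℤ) : ℚ) / (n j' : ℚ) ≤ -(w : ℚ) := by
    intro y w hy hw
    obtain ⟨j, hj⟩ := hcov (toUnit (pt k k) ≫ y)
    obtain ⟨hn, hc, he, hh⟩ := hprop j
    have hd := weight_eq hh he hw hj (deg_spec hc l)
    have hd' : ∀ z : kˣ, χ j (gpt z ≫ l) = (z : k) ^ ((n j : ℤ) * w) := fun z => by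
      rw [← hd]; exact deg_spec hc l z
    obtain ⟨hx, hall⟩ := core hy hn hh he hj hd'
    refine ⟨j, hx, ?_, fun j' hj' => ?_⟩
    · rw [hd, eq_div_iff (Nat.cast_ne_zero.2 (by omega))]
      push_cast
      ring
    · obtain ⟨hn', hc', he', hh'⟩ := hprop j'
      have h1 := hall (n j') (e j') _ _ hh' he' (deg_spec hc' l) hj'
      rw [div_le_iff₀ (Nat.cast_pos.2 (by omega))]
      have h2 : (((n j' : ℤ) * w : ℤ) : ℚ) ≤ ((deg (χ j' : (pt k k ⟶ T) → k) l : ℤ) : ℚ) := Int.cast_le.2 h1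
      push_cast at h2
      linarith
  simp only [Finset.mem_filter, Finset.mem_univ, true_and]
  constructor
  · rintro ⟨y, hy, hw⟩
    obtain ⟨j, hj, he, hall⟩ := val hy hw
    rw [Int.cast_neg, _root_.neg_neg] at he hall
    exact ⟨j, hj, he, fun j' hj' => (hall j' hj').trans he.le⟩
  · rintro ⟨j, hj, hm, hmax⟩
    obtain ⟨y, hy⟩ := exists_limit (a := a) (l := l ≫ i) x
    obtain ⟨w, hw⟩ := exists_weight (B := B) (GrothLib.MuFun27.isFixedBy_of_isLimitPt hy)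
    obtain ⟨j₀, hj₀, he, hall⟩ := val hy hw
    have hmw : m = -w := by
      have h1 := hall j hj
      have h2 := hmax j₀ hj₀
      rw [← hm] at h1 h2
      rw [← he] at h2
      exact_mod_cast le_antisymm h1 h2
    exact ⟨y, hy, by rw [hmw, _root_.neg_neg]; exact hw⟩

end GrothLib.GitMu15
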