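import Groth.Agent.Lib.MuFun27.Main
import Groth.Agent.Lib.MagnetPts25.Basic
import Groth.Agent.Lib.Induce27.Open
import Groth.Prelude.Def_HMNum

/-!
# Points of the line, the multiplicative group and fibre coordinates on affine test schemes
-/

set_option autoImplicit false
set_option maxHeartbeats 400000
set_option backward.isDefEq.respectTransparency false
set_option backward.isDefEq.respectTransparency.types false

universe u

open CategoryTheory CategoryTheory.Limits MonoidalCategory CartesianMonoidalCategory MonObj GrpObj AlgebraicGeometry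
open Opposite VecGrp

noncomputable section

namespace GrothLib.GitMu15

attribute [local instance 2000] Algebra.toModule

open GrothLib.Repr GrothLib.Induce27 GrothLib.MagnetPts

variable {k : Type u} [Field k] {R R' : Type u} [CommRing R] [Algebra k R] [CommRing R'] [Algebra k R']


/-- The character of the natural numbers of an element. -/
def bchar (b : R) : Multiplicative HMNum.plus →* R where
  toFun n := b ^ (n.toAdd : ℤ).toNat
  map_one' := by simp
  map_mul' x y := by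
    rw [← pow_add]
    congr 1
    have hx := (HMNum.mem_plus_iff _).1 x.toAdd.2
    have hy := (HMNum.mem_plus_iff _).1 y.toAdd.2
    simp only [toAdd_mul, AddSubmonoid.coe_add]
    omega

/-- The character of the integers of a unit. -/
def zchar (w : Rˣ) : Multiplicative ℤ →* R := (Units.coeHom R).comp (zpowersHom Rˣ w)

theorem zchar_apply (w : Rˣ) (n : ℤ) : zchar w (Multiplicative.ofAdd n) = ((w ^ n : Rˣ) : R) := by
  simp [zchar, zpowersHom_apply]

/-- The structure map of an affine test scheme. -/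
abbrev strK (k : Type u) [Field k] (R : Type u) [CommRing R] [Algebra k R] :
    Spec (CommRingCat.of R) ⟶ Spec (CommRingCat.of k) :=
  Spec.map (CommRingCat.ofHom (algebraMap k R))

/-- A point of the affine line. -/
def bpt (b : R) : pt k R ⟶ HMNum.A1 (Spec (CommRingCat.of k)) := amsPoint (↥HMNum.plus) (strK k R) (bchar b)

/-- A point of the multiplicative group. -/
def gpt (w : Rˣ) : pt k R ⟶ Red.Gm (Spec (CommRingCat.of k)) := amsPoint ℤ (strK k R) (zchar w)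

theorem ptMap_amsPoint {M : Type} [AddCommMonoid M] (φ : R →ₐ[k] R') (χ : Multiplicative M →* R) :
    ptMap φ ≫ amsPoint M (strK k R) χ = amsPoint M (strK k R') ((φ : R →* R').comp χ) :=
  amsPoint_comp (strK k R) (strK k R') φ.toRingHom χ (Over.w (ptMap φ))

theorem ptMap_bpt (φ : R →ₐ[k] R') (b : R) : ptMap φ ≫ bpt b = bpt (φ b) := by
  rw [bpt, ptMap_amsPoint, bpt]
  congr 1
  exact MonoidHom.ext fun n => by simp [bchar]

theorem ptMap_gpt (φ : R →ₐ[k] R') (w : Rˣ) : ptMap φ ≫ gpt w = gpt (Units.map (φ : R →* R') w) := by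
  rw [gpt, ptMap_amsPoint, gpt]
  congr 1
  refine MonoidHom.ext fun n => ?_
  obtain ⟨n, rfl⟩ := Multiplicative.ofAdd.surjective n
  rw [MonoidHom.comp_apply, zchar_apply, zchar_apply, ← map_zpow]
  rfl

theorem bpt_mul (b b' : R) : (bpt (k := k) (b * b')) = bpt (k := k) b * bpt (k := k) b' := by
  rw [bpt, bpt, bpt, ← map_mul]
  exact congrArg _ (MonoidHom.ext fun n => by simp [bchar, mul_pow])

theorem bchar_one : bchar (1 : R) = 1 := MonoidHom.ext fun n => by simp [bchar]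

theorem amsPoint_one {S₀ : Scheme.{u}} {M : Type} [AddCommMonoid M] {C : Type u} [CommRing C]
    (p : Spec (CommRingCat.of C) ⟶ S₀) : amsPoint M p 1 = toUnit _ ≫ η[Magnet.AMonS S₀ M] :=
  (amsPoint M p).map_one.trans Hom.one_def

theorem bpt_one : (bpt (k := k) (1 : R)) = toUnit _ ≫ η[HMNum.A1 (Spec (CommRingCat.of k))] :=
  (congrArg (amsPoint (↥HMNum.plus) (strK k R)) bchar_one).trans (amsPoint_one (strK k R))

theorem gpt_mul (w w' : Rˣ) : (gpt (k := k) (w * w')) = gpt (k := k) w * gpt (k := k) w' := by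
  rw [gpt, gpt, gpt, ← map_mul]
  refine congrArg _ (MonoidHom.ext fun n => ?_)
  obtain ⟨n, rfl⟩ := Multiplicative.ofAdd.surjective n
  simp [zchar_apply, mul_zpow]

theorem gpt_incl (w : Rˣ) : gpt (k := k) w ≫ HMNum.incl (Spec (CommRingCat.of k)) = bpt (w : R) := by
  rw [gpt, bpt, HMNum.incl, amsPoint_map]
  refine congrArg _ (MonoidHom.ext fun n => ?_)
  obtain ⟨⟨n, hn⟩, rfl⟩ := Multiplicative.ofAdd.surjective n
  obtain ⟨m, rfl⟩ := Int.eq_ofNat_of_zero_le ((HMNum.mem_plus_iff n).1 hn)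
  simp [bchar, zchar, zpowersHom_apply]

theorem exists_bpt (p : pt k R ⟶ HMNum.A1 (Spec (CommRingCat.of k))) : ∃ b : R, p = bpt b := by
  obtain ⟨χ, rfl⟩ := (amsPoint (↥HMNum.plus) (strK k R)).surjective p
  refine ⟨χ (Multiplicative.ofAdd ⟨1, AddSubmonoid.mem_multiples 1⟩), congrArg _ (MonoidHom.ext fun n => ?_)⟩
  obtain ⟨⟨n, hn⟩, rfl⟩ := Multiplicative.ofAdd.surjective n
  obtain ⟨m, rfl⟩ := Int.eq_ofNat_of_zero_le ((HMNum.mem_plus_iff n).1 hn)
  rw [show (bchar _) _ = _ ^ ((m : ℤ)).toNat from rfl, Int.toNat_natCast, ← map_pow, ← ofAdd_nsmul]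
  congr 2
  exact Subtype.ext (by simp)

theorem bpt_injective : Function.Injective (bpt (k := k) : R → (pt k R ⟶ HMNum.A1 (Spec (CommRingCat.of k)))) := by
  intro b b' h
  have := congrArg (fun f => f (Multiplicative.ofAdd (⟨1, AddSubmonoid.mem_multiples 1⟩ : HMNum.plus)))
    ((amsPoint (↥HMNum.plus) (strK k R)).injective h)
  simpa [bchar] using this

/-- The unit which is the point. -/
theorem unitOfPt_gpt (w : Rˣ) :
    (GmPts.unitOfPt (gpt (k := k) w) : Γ((pt k R).left, ⊤)) = fnPt k R (w : R) := by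
  letI := GrothLib.MagnetPts.algZ.{u} R
  show ((GmPts.coordIso.inv ≫ (GmPts.specPt (gpt (k := k) w)).appTop).hom) (GmPts.tPow 1) = _
  have h : GmPts.specPt (gpt (k := k) w) =
      Spec.map (CommRingCat.ofHom (MonoidAlgebra.lift (ULift.{u} ℤ) R (Multiplicative ℤ) (zchar w)).toRingHom) :=
    amsPoint_fst _ _
  rw [h]
  refine ((congrArg (fun ψ => (ConcreteCategory.hom ψ) (GmPts.tPow.{u} 1))
    (Scheme.ΓSpecIso_inv_naturality (CommRingCat.ofHom
      (MonoidAlgebra.lift (ULift.{u} ℤ) R (Multiplicative ℤ) (zchar w)).toRingHom))).symm).trans ?_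
  show (Scheme.ΓSpecIso (CommRingCat.of R)).inv.hom
    (MonoidAlgebra.lift (ULift.{u} ℤ) R (Multiplicative ℤ) (zchar w) (GmPts.tPow 1)) = _
  rw [GmPts.tPow, MonoidAlgebra.lift_single, zchar_apply, zpow_one, Algebra.smul_def, map_one, _root_.one_mul]
  rfl

section Coord

variable {X V : Over (Spec (CommRingCat.of k))} (π : V ⟶ X) {U : X.left.Opens}

/-- The coordinate of a point. -/
def crd (Y : Γ(V.left, π.left ⁻¹ᵁ U)) (v : pt k R ⟶ V) (h : ⊤ ≤ v.left ⁻¹ᵁ (π.left ⁻¹ᵁ U)) : R :=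
  (fnPtEquiv k R).symm (HMNum.evalFn π Y v h)

theorem fnPt_crd (Y : Γ(V.left, π.left ⁻¹ᵁ U)) (v : pt k R ⟶ V) (h : ⊤ ≤ v.left ⁻¹ᵁ (π.left ⁻¹ᵁ U)) :
    fnPt k R (crd π Y v h) = HMNum.evalFn π Y v h :=
  (fnPtEquiv k R).apply_symm_apply _

theorem evalFn_comp {T T' : Over (Spec (CommRingCat.of k))} (Y : Γ(V.left, π.left ⁻¹ᵁ U)) (f : T' ⟶ T) (v : T ⟶ V)
    (h : ⊤ ≤ v.left ⁻¹ᵁ (π.left ⁻¹ᵁ U)) (h' : ⊤ ≤ (f ≫ v).left ⁻¹ᵁ (π.left ⁻¹ᵁ U)) :
    HMNum.evalFn π Y (f ≫ v) h' = f.left.appTop (HMNum.evalFn π Y v h) := by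
  simp only [HMNum.evalFn, ← CommRingCat.comp_apply, Scheme.Hom.appTop, ← Scheme.Hom.appLE_eq_app,
    Scheme.Hom.preimage_top, Scheme.Hom.appLE_comp_appLE, Over.comp_left]

theorem crd_comp (φ : R →ₐ[k] R') (Y : Γ(V.left, π.left ⁻¹ᵁ U)) (v : pt k R ⟶ V)
    (h : ⊤ ≤ v.left ⁻¹ᵁ (π.left ⁻¹ᵁ U)) (h' : ⊤ ≤ (ptMap φ ≫ v).left ⁻¹ᵁ (π.left ⁻¹ᵁ U)) :
    crd π Y (ptMap φ ≫ v) h' = φ (crd π Y v h) := by
  apply (fnPtEquiv k R').injective
  rw [fnPtEquiv_apply, fnPtEquiv_apply, fnPt_crd, evalFn_comp π Y _ v h, ← fnMap_ptMap, fnPt_crd]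
  rfl

theorem specMap_fromSpec_appLE {Z : Scheme.{u}} {A : Z.Opens} (hA : IsAffineOpen A) (θ : Γ(Z, A) ⟶ CommRingCat.of R)
    (h : ⊤ ≤ (Spec.map θ ≫ hA.fromSpec) ⁻¹ᵁ A) :
    (Spec.map θ ≫ hA.fromSpec).appLE A ⊤ h = θ ≫ (Scheme.ΓSpecIso (CommRingCat.of R)).inv := by
  rw [← Scheme.Hom.appLE_comp_appLE (Spec.map θ) hA.fromSpec A ⊤ ⊤ (by rw [hA.fromSpec_preimage_self]) le_top]
  simp only [Scheme.Hom.appLE, hA.fromSpec_app_self, Category.assoc, ← Functor.map_comp_assoc]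
  rw [Scheme.ΓSpecIso_inv_naturality]
  congr 1

variable {π}

/-- Over a point landing in an affine open there are points with any coordinate. -/
theorem exists_over [IsAffineHom π.left] {Y : Γ(V.left, π.left ⁻¹ᵁ U)} (hY : GLinSh.IsFibreCoord π U Y)
    {W : X.left.Opens} (hW : IsAffineOpen W) (hWU : W ≤ U) (x : pt k R ⟶ X) (hx : x.left ⁻¹ᵁ W = ⊤) (z : R) :
    ∃ (v : pt k R ⟶ V) (h : ⊤ ≤ v.left ⁻¹ᵁ (π.left ⁻¹ᵁ U)), v ≫ π = x ∧ crd π Y v h = z := by
  have hr : Set.range x.left ⊆ Set.range hW.fromSpec := by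
    rintro _ ⟨p, rfl⟩
    rw [hW.range_fromSpec]
    exact (show p ∈ x.left ⁻¹ᵁ W from hx ▸ Set.mem_univ p)
  obtain ⟨ξ, hξ⟩ := Spec.map_surjective (IsOpenImmersion.lift hW.fromSpec x.left hr)
  have hxe : Spec.map ξ ≫ hW.fromSpec = x.left := by rw [hξ, IsOpenImmersion.lift_fac]
  let e := RingEquiv.ofBijective _ (hY W hW hWU)
  let θ : Γ(V.left, π.left ⁻¹ᵁ W) ⟶ CommRingCat.of R :=
    CommRingCat.ofHom ((Polynomial.eval₂RingHom ξ.hom z).comp e.symm.toRingHom)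
  have hθc : π.left.app W ≫ θ = ξ := by
    refine CommRingCat.hom_ext (RingHom.ext fun c => ?_)
    show Polynomial.eval₂RingHom ξ.hom z (e.symm (π.left.app W c)) = ξ c
    rw [show e.symm (π.left.app W c) = Polynomial.C c from
      e.symm_apply_eq.2 (by simp [e])]
    simp
  have hθy : θ (GLinSh.res π hWU Y) = z := by
    show Polynomial.eval₂RingHom ξ.hom z (e.symm (GLinSh.res π hWU Y)) = z
    rw [show e.symm (GLinSh.res π hWU Y) = Polynomial.X from e.symm_apply_eq.2 (by simp [e])]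
    simp
  let hVW := hW.preimage π.left
  let u : Spec (CommRingCat.of R) ⟶ V.left := Spec.map θ ≫ hVW.fromSpec
  have huπ : u ≫ π.left = x.left := by
    rw [← hxe, ← hθc, Spec.map_comp, Category.assoc, Category.assoc]
    congr 1
    rw [← Scheme.Hom.appLE_eq_app, hW.SpecMap_appLE_fromSpec π.left hVW]
  let v : pt k R ⟶ V := Over.homMk u (by
    show u ≫ V.hom = _
    rw [← Over.w π, ← Category.assoc, huπ, Over.w x])
  have hvπ : v ≫ π = x := Over.OverMorphism.ext huπ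
  have hvW : ⊤ ≤ v.left ⁻¹ᵁ (π.left ⁻¹ᵁ W) := by
    rw [show v.left ⁻¹ᵁ (π.left ⁻¹ᵁ W) = (v ≫ π).left ⁻¹ᵁ W from rfl, hvπ, hx]
  have h : ⊤ ≤ v.left ⁻¹ᵁ (π.left ⁻¹ᵁ U) := hvW.trans (fun p hp => hWU hp)
  refine ⟨v, h, hvπ, ?_⟩
  apply (fnPtEquiv k R).injective
  rw [fnPtEquiv_apply, fnPtEquiv_apply, fnPt_crd]
  have h1 : HMNum.evalFn π Y v h = u.appLE (π.left ⁻¹ᵁ W) ⊤ hvW (GLinSh.res π hWU Y) := by
    simp only [HMNum.evalFn, GLinSh.res, ← CommRingCat.comp_apply, Scheme.Hom.map_appLE]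
    rfl
  rw [h1, specMap_fromSpec_appLE hVW θ hvW]
  exact congrArg (Scheme.ΓSpecIso (CommRingCat.of R)).inv.hom hθy

/-- A point over an affine open is determined by its image and its coordinate. -/
theorem hom_ext_over [IsAffineHom π.left] {Y : Γ(V.left, π.left ⁻¹ᵁ U)} (hY : GLinSh.IsFibreCoord π U Y)
    {W : X.left.Opens} (hW : IsAffineOpen W) (hWU : W ≤ U) {v v' : pt k R ⟶ V}
    (h : ⊤ ≤ v.left ⁻¹ᵁ (π.left ⁻¹ᵁ U)) (h' : ⊤ ≤ v'.left ⁻¹ᵁ (π.left ⁻¹ᵁ U))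
    (hvW : (v ≫ π).left ⁻¹ᵁ W = ⊤) (hπ : v ≫ π = v' ≫ π) (hc : crd π Y v h = crd π Y v' h') : v = v' := by
  let hVW := hW.preimage π.left
  have key : ∀ w : pt k R ⟶ V, (w ≫ π).left ⁻¹ᵁ W = ⊤ →
      ∃ (θ : Γ(V.left, π.left ⁻¹ᵁ W) ⟶ CommRingCat.of R), Spec.map θ ≫ hVW.fromSpec = w.left := by
    intro w hw
    have hr : Set.range w.left ⊆ Set.range hVW.fromSpec := by
      rintro _ ⟨p, rfl⟩
      rw [hVW.range_fromSpec]
      exact (show p ∈ (w ≫ π).left ⁻¹ᵁ W from hw ▸ Set.mem_univ p)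
    obtain ⟨θ, hθ⟩ := Spec.map_surjective (IsOpenImmersion.lift hVW.fromSpec w.left hr)
    exact ⟨θ, by rw [hθ, IsOpenImmersion.lift_fac]⟩
  obtain ⟨θ, hθ⟩ := key v hvW
  obtain ⟨θ', hθ'⟩ := key v' (hπ ▸ hvW)
  suffices θ = θ' by
    apply Over.OverMorphism.ext
    rw [← hθ, ← hθ', this]
  have hcst : π.left.app W ≫ θ = π.left.app W ≫ θ' := by
    apply Spec.map_injective
    rw [← cancel_mono hW.fromSpec, Spec.map_comp, Spec.map_comp, Category.assoc, Category.assoc,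
      ← Scheme.Hom.appLE_eq_app, hW.SpecMap_appLE_fromSpec π.left hVW, ← Category.assoc, ← Category.assoc, hθ, hθ']
    exact congrArg CommaMorphism.left hπ
  have hy : ∀ (w : pt k R ⟶ V) (τ : Γ(V.left, π.left ⁻¹ᵁ W) ⟶ CommRingCat.of R)
      (hw : ⊤ ≤ w.left ⁻¹ᵁ (π.left ⁻¹ᵁ U)), Spec.map τ ≫ hVW.fromSpec = w.left → (w ≫ π).left ⁻¹ᵁ W = ⊤ →
      crd π Y w hw = τ (GLinSh.res π hWU Y) := by
    intro w τ hw e hwW
    apply (fnPtEquiv k R).injective
    rw [fnPtEquiv_apply, fnPtEquiv_apply, fnPt_crd]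
    have hwW' : ⊤ ≤ w.left ⁻¹ᵁ (π.left ⁻¹ᵁ W) := le_of_eq hwW.symm
    have h1 : HMNum.evalFn π Y w hw = w.left.appLE (π.left ⁻¹ᵁ W) ⊤ hwW' (GLinSh.res π hWU Y) := by
      simp only [HMNum.evalFn, GLinSh.res, ← CommRingCat.comp_apply, Scheme.Hom.map_appLE]
    rw [h1]
    revert hwW'
    rw [← e]
    intro hwW' _
    rw [specMap_fromSpec_appLE hVW τ hwW']
    rfl
  refine CommRingCat.hom_ext (RingHom.ext fun a => ?_)
  obtain ⟨p, rfl⟩ := (hY W hW hWU).2 a
  induction p using Polynomial.induction_on' with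
  | add p q hp hq => simp only [map_add, hp, hq]
  | monomial n c =>
    simp only [Polynomial.coe_eval₂RingHom, Polynomial.eval₂_monomial, map_mul, map_pow]
    rw [← hy v θ h hθ hvW, ← hy v' θ' h' hθ' (hπ ▸ hvW), hc]
    congr 1
    exact congrArg (fun f => (ConcreteCategory.hom f) c) hcst

end Coord

end GrothLib.GitMu15
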